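import Mathlib.AlgebraicGeometry.QuasiAffine
import Mathlib.AlgebraicGeometry.Morphisms.Flat
import Mathlib.RingTheory.Localization.BaseChange

/-!
# N6s: a quasi-affine quotient in terms of rings
-/

set_option autoImplicit false
universe u

open CategoryTheory CategoryTheory.Limits AlgebraicGeometry TopologicalSpace TensorProduct

namespace Groth.Agent.ResProp.EF.K895.N6s

/-- `Z_φ` is affine iff `D(φ)` is contained in `Z ⊆ Spec Γ(Z)`. -/
theorem isAffineOpen_basicOpen_iff (Z : Scheme.{u}) [Z.IsQuasiAffine] (φ : Γ(Z, ⊤)) :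
    IsAffineOpen (Z.basicOpen φ) ↔
      ((PrimeSpectrum.basicOpen φ : Opens (PrimeSpectrum Γ(Z, ⊤))) : Set (PrimeSpectrum Γ(Z, ⊤))) ⊆
        Set.range Z.toSpecΓ := by
  constructor
  · intro hr
    have hq := isLocalization_basicOpen_of_qcqs (X := Z) isCompact_univ isQuasiSeparated_univ φ
    have h1 : (Z.basicOpen φ).ι ≫ Z.toSpecΓ =
        hr.isoSpec.hom ≫ Spec.map (Z.presheaf.map (homOfLE (Z.basicOpen_le φ)).op) := by
      rw [IsAffineOpen.isoSpec_hom]
      exact (Scheme.Opens.toSpecΓ_SpecMap_presheaf_map_top _).symm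
    have h2 : Set.range (Spec.map (Z.presheaf.map (homOfLE (Z.basicOpen_le φ)).op)) =
        ((PrimeSpectrum.basicOpen φ : Opens (PrimeSpectrum Γ(Z, ⊤))) : Set (PrimeSpectrum Γ(Z, ⊤))) :=
      PrimeSpectrum.localization_away_comap_range (Γ(Z, Z.basicOpen φ)) φ
    rw [← h2]
    rintro _ ⟨x, rfl⟩
    refine ⟨(Z.basicOpen φ).ι (hr.isoSpec.inv x), ?_⟩
    rw [← Scheme.Hom.comp_apply, h1, ← Scheme.Hom.comp_apply, Iso.inv_hom_id_assoc]
  · intro h
    rw [← Z.toSpecΓ_preimage_basicOpen, ← Scheme.Hom.isAffineOpen_iff_of_isOpenImmersion Z.toSpecΓ]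
    have e : Z.toSpecΓ ''ᵁ (Z.toSpecΓ ⁻¹ᵁ (PrimeSpectrum.basicOpen φ)) = PrimeSpectrum.basicOpen φ :=
      TopologicalSpace.Opens.ext (Set.image_preimage_eq_of_subset h)
    rw [e]
    exact IsAffineOpen.Spec_basicOpen φ

/-- The radical ideal of the complement of `Z` in `Spec Γ(Z)`. -/
noncomputable def affIdeal (Z : Scheme.{u}) : Ideal Γ(Z, ⊤) :=
  PrimeSpectrum.vanishingIdeal ((Set.range Z.toSpecΓ)ᶜ : Set (PrimeSpectrum Γ(Z, ⊤)))

theorem mem_affIdeal (Z : Scheme.{u}) [Z.IsQuasiAffine] (φ : Γ(Z, ⊤)) :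
    φ ∈ affIdeal Z ↔ IsAffineOpen (Z.basicOpen φ) := by
  rw [isAffineOpen_basicOpen_iff, affIdeal, PrimeSpectrum.mem_vanishingIdeal]
  constructor
  · intro h x hx
    by_contra hn
    exact hx (h x hn)
  · intro h x hx
    by_contra hn
    exact hx (h hn)

theorem isRadical_affIdeal (Z : Scheme.{u}) : (affIdeal Z).IsRadical :=
  PrimeSpectrum.isRadical_vanishingIdeal _

/-- Finitely many `φ` with `Z_φ` affine cover `Z`. -/
theorem exists_cover (Z : Scheme.{u}) [Z.IsQuasiAffine] :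
    ∃ s : Finset Γ(Z, ⊤), (∀ φ ∈ s, φ ∈ affIdeal Z) ∧ ∀ x : Z, ∃ φ ∈ s, x ∈ Z.basicOpen φ := by
  have h := (Scheme.IsQuasiAffine.isBasis_basicOpen Z)
  have hx : ∀ x : Z, ∃ φ : Γ(Z, ⊤), φ ∈ affIdeal Z ∧ x ∈ Z.basicOpen φ := by
    intro x
    obtain ⟨_, ⟨_, ⟨r, hr, rfl⟩, rfl⟩, hxr, -⟩ := h.exists_subset_of_mem_open (Set.mem_univ x) isOpen_univ
    exact ⟨r, (mem_affIdeal Z r).2 hr, hxr⟩
  choose r hr hxr using hx
  obtain ⟨t, ht⟩ := isCompact_univ.elim_finite_subcover (fun x : Z => ((Z.basicOpen (r x) : Z.Opens) : Set Z))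
    (fun x => (Z.basicOpen (r x)).2) (fun x _ => Set.mem_iUnion.2 ⟨x, hxr x⟩)
  classical
  refine ⟨t.image r, ?_, ?_⟩
  · intro φ hφ
    obtain ⟨x, -, rfl⟩ := Finset.mem_image.1 hφ
    exact hr x
  · intro x
    obtain ⟨y, hy⟩ := Set.mem_iUnion.1 (ht (Set.mem_univ x))
    obtain ⟨hy1, hy2⟩ := Set.mem_iUnion.1 hy
    exact ⟨r y, Finset.mem_image_of_mem _ hy1, hy2⟩

/-- A flat surjective affine morphism is faithfully flat on sections over affine opens. -/
theorem faithfullyFlat_app {E Z : Scheme.{u}} (p : E ⟶ Z) [IsAffineHom p] [Flat p] [Surjective p] {U : Z.Opens}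
    (hU : IsAffineOpen U) : (p.app U).hom.FaithfullyFlat := by
  have hV : IsAffineOpen (p ⁻¹ᵁ U) := hU.preimage p
  have hap : p.app U = p.appLE U (p ⁻¹ᵁ U) le_rfl := p.app_eq_appLE
  rw [RingHom.FaithfullyFlat.iff_flat_and_comap_surjective, hap]
  refine ⟨p.flat_appLE hU hV le_rfl, ?_⟩
  intro y
  have hy : hU.fromSpec y ∈ U := by
    have h : hU.fromSpec y ∈ Set.range hU.fromSpec := ⟨y, rfl⟩
    rw [hU.range_fromSpec] at h
    exact h
  obtain ⟨e, he⟩ := p.surjective (hU.fromSpec y)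
  obtain ⟨y', hy'⟩ : e ∈ Set.range hV.fromSpec := by
    rw [hV.range_fromSpec]
    change p e ∈ U
    rw [he]
    exact hy
  refine ⟨y', ?_⟩
  apply hU.fromSpec.isOpenEmbedding.injective
  have h := hU.SpecMap_appLE_fromSpec p hV le_rfl
  have h2 : hU.fromSpec (Spec.map (p.appLE U (p ⁻¹ᵁ U) le_rfl) y') = p (hV.fromSpec y') := by
    rw [← Scheme.Hom.comp_apply, h, Scheme.Hom.comp_apply]
  exact h2.trans (by rw [hy', he])

/-- Bijectivity of `D ⊗ D → R` after inverting `φ`, in terms of elements. -/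
theorem locBij_of_localized {B0 D0 R0 B1 D1 R1 : Type*} [CommRing B0] [CommRing D0] [CommRing R0] [CommRing B1]
    [CommRing D1] [CommRing R1] [Algebra B0 D0] [Algebra B0 R0] [Algebra B0 B1] [Algebra B0 D1] [Algebra B0 R1]
    [Algebra B1 D1] [Algebra B1 R1] [IsScalarTower B0 B1 D1] [IsScalarTower B0 B1 R1]
    (φ : B0) [IsLocalization.Away φ B1] (fD : D0 →ₐ[B0] D1) (fR : R0 →ₐ[B0] R1)
    [IsLocalizedModule (Submonoid.powers φ) fD.toLinearMap] [IsLocalizedModule (Submonoid.powers φ) fR.toLinearMap]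
    (a b : D0 →ₐ[B0] R0) (a1 b1 : D1 →ₐ[B1] R1) (ha : ∀ x, fR (a x) = a1 (fD x)) (hb : ∀ x, fR (b x) = b1 (fD x))
    (h : Function.Bijective (Algebra.TensorProduct.productMap a1 b1)) :
    (∀ x : D0 ⊗[B0] D0, Algebra.TensorProduct.productMap a b x = 0 → ∃ n : ℕ, φ ^ n • x = 0) ∧
      (∀ y : R0, ∃ (n : ℕ) (x : D0 ⊗[B0] D0), Algebra.TensorProduct.productMap a b x = φ ^ n • y) := by
  let S := Submonoid.powers φ
  have := IsLocalization.tensorProduct_compatibleSMul S B1 D1 D1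
  let T : D0 ⊗[B0] D0 →ₗ[B0] D1 ⊗[B0] D1 := TensorProduct.map fD.toLinearMap fD.toLinearMap
  have hT : IsLocalizedModule S T := inferInstance
  let e : D1 ⊗[B1] D1 ≃ₗ[B1] D1 ⊗[B0] D1 := IsLocalization.moduleTensorEquiv S B1 D1 D1
  let c1 : D1 ⊗[B0] D1 →ₗ[B0] R1 := (((Algebra.TensorProduct.productMap a1 b1).toLinearMap.restrictScalars B0).comp
    (e.symm.toLinearMap.restrictScalars B0))
  have hc1 : Function.Bijective c1 := h.comp e.symm.bijective
  have hcomm : ∀ x, fR (Algebra.TensorProduct.productMap a b x) = c1 (T x) := by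
    intro x
    induction x with
    | zero => simp
    | add x y hx hy => rw [map_add, map_add, hx, hy, map_add, map_add]
    | tmul x y =>
      have : c1 (T (x ⊗ₜ y)) = Algebra.TensorProduct.productMap a1 b1 (fD x ⊗ₜ[B1] fD y) := rfl
      rw [this, Algebra.TensorProduct.productMap_apply_tmul, Algebra.TensorProduct.productMap_apply_tmul, map_mul,
        ha, hb]
  constructor
  · intro x hx
    have h1 : c1 (T x) = c1 (T 0) := by rw [← hcomm, hx]; simp
    obtain ⟨⟨_, n, rfl⟩, hs⟩ := IsLocalizedModule.exists_of_eq (S := S) (f := T) (hc1.1 h1)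
    exact ⟨n, by simpa [Submonoid.smul_def] using hs⟩
  · intro y
    obtain ⟨z, hz⟩ := hc1.2 (fR y)
    obtain ⟨⟨x, ⟨_, n, rfl⟩⟩, hx⟩ := IsLocalizedModule.surj S T z
    have h2 : fR.toLinearMap (Algebra.TensorProduct.productMap a b x) = fR.toLinearMap (φ ^ n • y) := by
      change fR _ = fR _
      rw [hcomm, ← hx, map_smul fR, ← hz]
      exact map_smul c1 (φ ^ n) z
    obtain ⟨⟨_, m, rfl⟩, hs⟩ := IsLocalizedModule.exists_of_eq (S := S) (f := fR.toLinearMap) h2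
    refine ⟨m + n, φ ^ m • x, ?_⟩
    rw [map_smul, pow_add, mul_smul]
    simpa [Submonoid.smul_def] using hs

/-- A pushout square of commutative rings: the map from the tensor product is bijective. -/
theorem bijective_productMap_of_isPushout {B1 D1 R1 : CommRingCat.{u}} (g : B1 ⟶ D1) (a b : D1 ⟶ R1)
    (h : IsPushout g g a b) [Algebra B1 D1] [Algebra B1 R1] (hg : algebraMap B1 D1 = g.hom)
    (a1 b1 : D1 →ₐ[B1] R1) (ha : a1.toRingHom = a.hom) (hb : b1.toRingHom = b.hom) :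
    Function.Bijective (Algebra.TensorProduct.productMap a1 b1) := by
  have h0 := CommRingCat.isPushout_tensorProduct B1 D1 D1
  have hg' : CommRingCat.ofHom (algebraMap B1 D1) = g := by
    rw [hg]; rfl
  rw [hg'] at h0
  let e := h0.isoIsPushout _ _ h
  have he : (Algebra.TensorProduct.productMap a1 b1).toRingHom = e.hom.hom := by
    have h1 : CommRingCat.ofHom (Algebra.TensorProduct.productMap a1 b1).toRingHom = e.hom := by
      apply h0.hom_ext
      · rw [IsPushout.inl_isoIsPushout_hom]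
        ext x
        change Algebra.TensorProduct.productMap a1 b1 (x ⊗ₜ 1) = a.hom x
        rw [Algebra.TensorProduct.productMap_apply_tmul, map_one, mul_one, ← ha]
        rfl
      · rw [IsPushout.inr_isoIsPushout_hom]
        ext x
        change Algebra.TensorProduct.productMap a1 b1 (1 ⊗ₜ x) = b.hom x
        rw [Algebra.TensorProduct.productMap_apply_tmul, map_one, one_mul, ← hb]
        rfl
    rw [← h1]
    rfl
  have hbij : Function.Bijective e.hom.hom := (ConcreteCategory.isIso_iff_bijective e.hom).1 inferInstance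
  rw [← he] at hbij
  exact hbij

/-- Sections over a basic open subset, in a form which can be rewritten. -/
theorem isLocalization_of_eq_basicOpen {X : Scheme.{u}} [CompactSpace X] [QuasiSeparatedSpace X] (f : Γ(X, ⊤))
    (V : X.Opens) (hV : V = X.basicOpen f) [Algebra Γ(X, ⊤) Γ(X, V)]
    (h : algebraMap Γ(X, ⊤) Γ(X, V) = (X.presheaf.map (homOfLE le_top).op).hom) :
    IsLocalization.Away f Γ(X, V) := by
  subst hV
  have h1 := isLocalization_basicOpen_of_qcqs (X := X) isCompact_univ isQuasiSeparated_univ f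
  rename_i _ _ i
  have : i = (X.presheaf.map (homOfLE (X.basicOpen_le f)).op).hom.toAlgebra := by
    apply Algebra.algebra_ext
    intro x
    exact congrArg (fun φ : Γ(X, ⊤) →+* Γ(X, X.basicOpen f) => φ x) h
  subst this
  exact h1

/-- **The kernel pair of an affine morphism to a quasi-affine scheme in terms of rings.** -/
theorem locBij {E Z R : Scheme.{u}} [Z.IsQuasiAffine] (p : E ⟶ Z) [IsAffineHom p] (s t : R ⟶ E)
    (h : IsPullback s t p p) (φ : Γ(Z, ⊤)) (hφ : IsAffineOpen (Z.basicOpen φ))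
    [Algebra Γ(Z, ⊤) Γ(E, ⊤)] [Algebra Γ(Z, ⊤) Γ(R, ⊤)]
    (hE : algebraMap Γ(Z, ⊤) Γ(E, ⊤) = p.appTop.hom) (hR : algebraMap Γ(Z, ⊤) Γ(R, ⊤) = (s ≫ p).appTop.hom)
    (a b : Γ(E, ⊤) →ₐ[Γ(Z, ⊤)] Γ(R, ⊤)) (ha : a.toRingHom = s.appTop.hom) (hb : b.toRingHom = t.appTop.hom) :
    (∀ x : Γ(E, ⊤) ⊗[Γ(Z, ⊤)] Γ(E, ⊤), Algebra.TensorProduct.productMap a b x = 0 → ∃ n : ℕ, φ ^ n • x = 0) ∧
      (∀ y : Γ(R, ⊤), ∃ (n : ℕ) (x : Γ(E, ⊤) ⊗[Γ(Z, ⊤)] Γ(E, ⊤)),
        Algebra.TensorProduct.productMap a b x = φ ^ n • y) := by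
  have hEqa : E.IsQuasiAffine := .of_isAffineHom p
  have hs : IsAffineHom s := MorphismProperty.of_isPullback h.flip inferInstance
  have hRqa : R.IsQuasiAffine := .of_isAffineHom s
  set U : Z.Opens := Z.basicOpen φ with hU
  set V : E.Opens := p ⁻¹ᵁ U with hV
  set W : R.Opens := s ⁻¹ᵁ V with hW
  have hVa : IsAffineOpen V := hφ.preimage p
  have hVe : V = E.basicOpen (p.appTop φ) := by
    rw [hV, hU, Scheme.preimage_basicOpen_top]
  have hWe : W = R.basicOpen ((s ≫ p).appTop φ) := by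
    rw [hW, hVe, Scheme.preimage_basicOpen_top, Scheme.Hom.comp_appTop]
    rfl
  have hWt : W = s ⁻¹ᵁ V ⊓ t ⁻¹ᵁ V := by
    have : t ⁻¹ᵁ V = W := by
      rw [hW, hV, ← Scheme.Hom.comp_preimage, ← Scheme.Hom.comp_preimage, h.w]
    rw [this, ← hW, inf_idem]
  have hiso := isIso_pushoutSection_of_isAffineOpen (US := U) (UT := V) (UX := V) (UY := W) h le_rfl le_rfl hWt
    hφ hVa hVa
  rw [isIso_pushoutSection_iff] at hiso
  -- algebra structures
  let iB : Algebra Γ(Z, ⊤) Γ(Z, U) := (Z.presheaf.map (homOfLE le_top).op).hom.toAlgebra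
  let iD : Algebra Γ(E, ⊤) Γ(E, V) := (E.presheaf.map (homOfLE le_top).op).hom.toAlgebra
  let iR : Algebra Γ(R, ⊤) Γ(R, W) := (R.presheaf.map (homOfLE le_top).op).hom.toAlgebra
  let iBD : Algebra Γ(Z, ⊤) Γ(E, V) := ((algebraMap Γ(E, ⊤) Γ(E, V)).comp (algebraMap Γ(Z, ⊤) Γ(E, ⊤))).toAlgebra
  let iBR : Algebra Γ(Z, ⊤) Γ(R, W) := ((algebraMap Γ(R, ⊤) Γ(R, W)).comp (algebraMap Γ(Z, ⊤) Γ(R, ⊤))).toAlgebra
  let iB1D : Algebra Γ(Z, U) Γ(E, V) := (p.appLE U V le_rfl).hom.toAlgebra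
  let iB1R : Algebra Γ(Z, U) Γ(R, W) := ((s.appLE V W le_rfl).hom.comp (p.appLE U V le_rfl).hom).toAlgebra
  have t1 : IsScalarTower Γ(Z, ⊤) Γ(E, ⊤) Γ(E, V) := .of_algebraMap_eq' rfl
  have t2 : IsScalarTower Γ(Z, ⊤) Γ(R, ⊤) Γ(R, W) := .of_algebraMap_eq' rfl
  have hsV : ∀ x : Γ(E, ⊤), (R.presheaf.map (homOfLE (le_top : W ≤ ⊤)).op).hom (s.appTop.hom x) =
      (s.appLE V W le_rfl).hom ((E.presheaf.map (homOfLE (le_top : V ≤ ⊤)).op).hom x) := by
    intro x
    have e1 : s.appTop ≫ R.presheaf.map (homOfLE (le_top : W ≤ ⊤)).op =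
        E.presheaf.map (homOfLE (le_top : V ≤ ⊤)).op ≫ s.appLE V W le_rfl := by
      rw [Scheme.Hom.map_appLE]
      rfl
    exact congrArg (fun ψ => ψ.hom x) e1
  have htV : ∀ x : Γ(E, ⊤), (R.presheaf.map (homOfLE (le_top : W ≤ ⊤)).op).hom (t.appTop.hom x) =
      (t.appLE V W (hWt.trans_le inf_le_right)).hom ((E.presheaf.map (homOfLE (le_top : V ≤ ⊤)).op).hom x) := by
    intro x
    have e1 : t.appTop ≫ R.presheaf.map (homOfLE (le_top : W ≤ ⊤)).op =
        E.presheaf.map (homOfLE (le_top : V ≤ ⊤)).op ≫ t.appLE V W (hWt.trans_le inf_le_right) := by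
      rw [Scheme.Hom.map_appLE]
      rfl
    exact congrArg (fun ψ => ψ.hom x) e1
  have hpV : ∀ x : Γ(Z, ⊤), (E.presheaf.map (homOfLE (le_top : V ≤ ⊤)).op).hom (p.appTop.hom x) =
      (p.appLE U V le_rfl).hom ((Z.presheaf.map (homOfLE (le_top : U ≤ ⊤)).op).hom x) := by
    intro x
    have e1 : p.appTop ≫ E.presheaf.map (homOfLE (le_top : V ≤ ⊤)).op =
        Z.presheaf.map (homOfLE (le_top : U ≤ ⊤)).op ≫ p.appLE U V le_rfl := by
      rw [Scheme.Hom.map_appLE]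
      rfl
    exact congrArg (fun ψ => ψ.hom x) e1
  have t3 : IsScalarTower Γ(Z, ⊤) Γ(Z, U) Γ(E, V) := .of_algebraMap_eq fun x => by
    change (E.presheaf.map (homOfLE (le_top : V ≤ ⊤)).op).hom (algebraMap Γ(Z, ⊤) Γ(E, ⊤) x) = _
    rw [hE]
    exact hpV x
  have t4 : IsScalarTower Γ(Z, ⊤) Γ(Z, U) Γ(R, W) := .of_algebraMap_eq fun x => by
    change (R.presheaf.map (homOfLE (le_top : W ≤ ⊤)).op).hom (algebraMap Γ(Z, ⊤) Γ(R, ⊤) x) = _
    rw [hR]
    change (R.presheaf.map (homOfLE (le_top : W ≤ ⊤)).op).hom ((s ≫ p).appTop.hom x) =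
      (s.appLE V W le_rfl).hom ((p.appLE U V le_rfl).hom ((Z.presheaf.map (homOfLE (le_top : U ≤ ⊤)).op).hom x))
    rw [← hpV, ← hsV, Scheme.Hom.comp_appTop]
    rfl
  have l1 : IsLocalization.Away φ Γ(Z, U) := isLocalization_of_eq_basicOpen φ U rfl rfl
  have l2 : IsLocalization.Away (algebraMap Γ(Z, ⊤) Γ(E, ⊤) φ) Γ(E, V) := by
    rw [hE]
    exact isLocalization_of_eq_basicOpen (p.appTop.hom φ) V hVe rfl
  have l3 : IsLocalization.Away (algebraMap Γ(Z, ⊤) Γ(R, ⊤) φ) Γ(R, W) := by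
    rw [hR]
    exact isLocalization_of_eq_basicOpen ((s ≫ p).appTop.hom φ) W hWe rfl
  have m2 : IsLocalizedModule (Submonoid.powers φ) (IsScalarTower.toAlgHom Γ(Z, ⊤) Γ(E, ⊤) Γ(E, V)).toLinearMap := by
    rw [isLocalizedModule_iff_isLocalization]
    rw [Algebra.algebraMapSubmonoid_powers]
    exact l2
  have m3 : IsLocalizedModule (Submonoid.powers φ) (IsScalarTower.toAlgHom Γ(Z, ⊤) Γ(R, ⊤) Γ(R, W)).toLinearMap := by
    rw [isLocalizedModule_iff_isLocalization]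
    rw [Algebra.algebraMapSubmonoid_powers]
    exact l3
  let a1 : Γ(E, V) →ₐ[Γ(Z, U)] Γ(R, W) := { (s.appLE V W le_rfl).hom with commutes' := fun _ => rfl }
  let b1 : Γ(E, V) →ₐ[Γ(Z, U)] Γ(R, W) :=
    { (t.appLE V W (hWt.trans_le inf_le_right)).hom with
      commutes' := fun x => by
        have e1 : p.appLE U V le_rfl ≫ t.appLE V W (hWt.trans_le inf_le_right) =
            p.appLE U V le_rfl ≫ s.appLE V W le_rfl := hiso.w.symm
        exact congrArg (fun ψ => ψ.hom x) e1 }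
  refine locBij_of_localized (B1 := Γ(Z, U)) φ (IsScalarTower.toAlgHom Γ(Z, ⊤) Γ(E, ⊤) Γ(E, V))
    (IsScalarTower.toAlgHom Γ(Z, ⊤) Γ(R, ⊤) Γ(R, W)) a b a1 b1 ?_ ?_ ?_
  · intro x
    have : a x = s.appTop.hom x := congrArg (fun ψ : Γ(E, ⊤) →+* Γ(R, ⊤) => ψ x) ha
    rw [this]
    exact hsV x
  · intro x
    have : b x = t.appTop.hom x := congrArg (fun ψ : Γ(E, ⊤) →+* Γ(R, ⊤) => ψ x) hb
    rw [this]
    exact htV x
  · exact bijective_productMap_of_isPushout _ _ _ hiso rfl a1 b1 rfl rfl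

end Groth.Agent.ResProp.EF.K895.N6s
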