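import Groth.Agent.ResProp.EF.K895.N6s
import Mathlib.AlgebraicGeometry.Sites.Fpqc
import Mathlib.AlgebraicGeometry.EffectiveEpi

/-!
# N6s, second part: functions on a quotient, flat base change, stability of `affIdeal`
-/

set_option autoImplicit false
universe u

open CategoryTheory CategoryTheory.Limits AlgebraicGeometry TopologicalSpace TensorProduct

namespace Groth.Agent.ResProp.EF.K895.N6s

/-- the polynomial ring in one variable in universe `u` -/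
noncomputable abbrev Pol : CommRingCat.{u} := CommRingCat.of (MvPolynomial PUnit.{u+1} (ULift.{u} ℤ))

/-- the morphism `X ⟶ 𝔸¹` given by a function -/
noncomputable def fn (X : Scheme.{u}) (x : Γ(X, ⊤)) : X ⟶ Spec Pol.{u} :=
  X.toSpecΓ ≫ Spec.map (CommRingCat.ofHom
    ((MvPolynomial.eval₂Hom ((Int.castRingHom Γ(X, ⊤)).comp ULift.ringEquiv.toRingHom) (fun _ => x) :
      MvPolynomial PUnit.{u+1} (ULift.{u} ℤ) →+* Γ(X, ⊤))))

/-- the function given by a morphism `X ⟶ 𝔸¹` -/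
noncomputable def fn' {X : Scheme.{u}} (m : X ⟶ Spec Pol.{u}) : Γ(X, ⊤) :=
  m.appTop.hom ((Scheme.ΓSpecIso Pol.{u}).inv.hom (MvPolynomial.X PUnit.unit))

theorem fn'_fn (X : Scheme.{u}) (x : Γ(X, ⊤)) : fn' (fn X x) = x := by
  unfold fn' fn
  rw [Scheme.Hom.comp_appTop, Scheme.toSpecΓ_appTop]
  have h1 := Scheme.ΓSpecIso_inv_naturality (CommRingCat.ofHom
    ((MvPolynomial.eval₂Hom ((Int.castRingHom Γ(X, ⊤)).comp ULift.ringEquiv.toRingHom) (fun _ => x) :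
      MvPolynomial PUnit.{u+1} (ULift.{u} ℤ) →+* Γ(X, ⊤))))
  have h2 := congrArg (fun ψ => ψ.hom (MvPolynomial.X PUnit.unit)) h1
  simp only [CommRingCat.hom_comp, RingHom.comp_apply, CommRingCat.hom_ofHom] at h2 ⊢
  rw [← h2]
  simp only [MvPolynomial.coe_eval₂Hom, MvPolynomial.eval₂_X]
  exact congrArg (fun ψ => ψ.hom x) (Scheme.ΓSpecIso Γ(X, ⊤)).inv_hom_id

theorem comp_fn {X Y : Scheme.{u}} (f : X ⟶ Y) (x : Γ(Y, ⊤)) : f ≫ fn Y x = fn X (f.appTop.hom x) := by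
  unfold fn
  rw [← Category.assoc, Scheme.toSpecΓ_naturality, Category.assoc, ← Spec.map_comp]
  congr 2
  ext1
  apply MvPolynomial.ringHom_ext
  · intro r
    simp
  · intro i
    simp

theorem fn'_comp {X Y : Scheme.{u}} (f : X ⟶ Y) (m : Y ⟶ Spec Pol.{u}) : fn' (f ≫ m) = f.appTop.hom (fn' m) := by
  unfold fn'
  rw [Scheme.Hom.comp_appTop]
  rfl

/-- functions on the target of an effective epimorphism -/
theorem injective_appTop_of_epi {E Z : Scheme.{u}} (p : E ⟶ Z) [Epi p] : Function.Injective p.appTop.hom := by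
  intro x y hxy
  have h : p ≫ fn Z x = p ≫ fn Z y := by rw [comp_fn, comp_fn, hxy]
  have h2 := (cancel_epi p).mp h
  rw [← fn'_fn Z x, h2, fn'_fn]

theorem exists_of_effectiveEpi {E Z R : Scheme.{u}} (p : E ⟶ Z) [EffectiveEpi p] (s t : R ⟶ E) (h : IsPullback s t p p)
    (x : Γ(E, ⊤)) (hx : s.appTop.hom x = t.appTop.hom x) : ∃ z : Γ(Z, ⊤), p.appTop.hom z = x := by
  have hc : ∀ {W : Scheme.{u}} (g₁ g₂ : W ⟶ E), g₁ ≫ p = g₂ ≫ p → g₁ ≫ fn E x = g₂ ≫ fn E x := by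
    intro W g₁ g₂ hg
    have e1 : g₁ = h.lift g₁ g₂ hg ≫ s := (h.lift_fst _ _ _).symm
    have e2 : g₂ = h.lift g₁ g₂ hg ≫ t := (h.lift_snd _ _ _).symm
    have e3 : s ≫ fn E x = t ≫ fn E x := by rw [comp_fn, comp_fn, hx]
    rw [e1, Category.assoc, e3, ← Category.assoc, ← e2]
  refine ⟨fn' (EffectiveEpi.desc p (fn E x) hc), ?_⟩
  rw [← fn'_comp, EffectiveEpi.fac, fn'_fn]

/-- Bijectivity of the map from the tensor product for a push-out square. -/
theorem bijective_productMap_of_isPushout' {B1 D1 D2 R1 : CommRingCat.{u}} (g : B1 ⟶ D1) (g' : B1 ⟶ D2)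
    (a : D1 ⟶ R1) (b : D2 ⟶ R1)
    (h : IsPushout g g' a b) [Algebra B1 D1] [Algebra B1 D2] [Algebra B1 R1] (hg : algebraMap B1 D1 = g.hom)
    (hg' : algebraMap B1 D2 = g'.hom)
    (a1 : D1 →ₐ[B1] R1) (b1 : D2 →ₐ[B1] R1) (ha : a1.toRingHom = a.hom) (hb : b1.toRingHom = b.hom) :
    Function.Bijective (Algebra.TensorProduct.productMap a1 b1) := by
  have h0 := CommRingCat.isPushout_tensorProduct B1 D1 D2
  have e1 : CommRingCat.ofHom (algebraMap B1 D1) = g := by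
    rw [hg]; rfl
  have e2 : CommRingCat.ofHom (algebraMap B1 D2) = g' := by
    rw [hg']; rfl
  rw [e1, e2] at h0
  let e := h0.isoIsPushout _ _ h
  have he : (Algebra.TensorProduct.productMap a1 b1).toRingHom = e.hom.hom := by
    have h1 : CommRingCat.ofHom (Algebra.TensorProduct.productMap a1 b1).toRingHom = e.hom := by
      apply h0.hom_ext
      · rw [IsPushout.inl_isoIsPushout_hom]
        ext x
        change Algebra.TensorProduct.productMap a1 b1 (x ⊗ₜ 1) = a.hom x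
        rw [Algebra.TensorProduct.productMap_apply_tmul, map_one, mul_one, ← ha]
        rfl
      · rw [IsPushout.inr_isoIsPushout_hom]
        ext x
        change Algebra.TensorProduct.productMap a1 b1 (1 ⊗ₜ x) = b.hom x
        rw [Algebra.TensorProduct.productMap_apply_tmul, map_one, one_mul, ← hb]
        rfl
    rw [← h1]
    rfl
  have hbij : Function.Bijective e.hom.hom := (ConcreteCategory.isIso_iff_bijective e.hom).1 inferInstance
  rw [← he] at hbij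
  exact hbij

/-- Flat base change for global sections. -/
theorem isPushout_appTop {X Y S T : Scheme.{u}} {f : T ⟶ S} {g : Y ⟶ X} {iX : X ⟶ S} {iY : Y ⟶ T}
    (H : IsPullback g iY iX f) [IsAffine S] [IsAffine T] [CompactSpace X] [QuasiSeparatedSpace X] [Flat f] :
    IsPushout iX.appTop f.appTop g.appTop iY.appTop := by
  have hU : (⊤ : Y.Opens) = g ⁻¹ᵁ (⊤ : X.Opens) ⊓ iY ⁻¹ᵁ (⊤ : T.Opens) := by simp
  have h := (isIso_pushoutSection_iff (US := (⊤ : S.Opens)) (UT := (⊤ : T.Opens)) (UX := (⊤ : X.Opens))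
    (UY := (⊤ : Y.Opens)) H le_top le_top hU).1
    (isIso_pushoutSection_of_isQuasiSeparated_of_flat_right H le_top le_top hU
    (isAffineOpen_top S) (isAffineOpen_top T) isCompact_univ isQuasiSeparated_univ)
  have e : ∀ {X Y : Scheme.{u}} (f : X ⟶ Y), f.appLE ⊤ ⊤ le_top = f.appTop := by
    intro X Y f
    exact (f.app_eq_appLE).symm
  rw [e, e, e, e] at h
  exact h

/-- `Γ(X ×_S T) = Γ(X) ⊗_{Γ(S)} Γ(T)` for `S`, `T` affine, `T` flat over `S`, `X` quasi-compact and quasi-separated. -/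
theorem bijective_productMap_of_flat {X Y S T : Scheme.{u}} {f : T ⟶ S} {g : Y ⟶ X} {iX : X ⟶ S} {iY : Y ⟶ T}
    (H : IsPullback g iY iX f) [IsAffine S] [IsAffine T] [CompactSpace X] [QuasiSeparatedSpace X] [Flat f]
    [Algebra Γ(S, ⊤) Γ(X, ⊤)] [Algebra Γ(S, ⊤) Γ(T, ⊤)] [Algebra Γ(S, ⊤) Γ(Y, ⊤)]
    (hX : algebraMap Γ(S, ⊤) Γ(X, ⊤) = iX.appTop.hom) (hT : algebraMap Γ(S, ⊤) Γ(T, ⊤) = f.appTop.hom)
    (a : Γ(X, ⊤) →ₐ[Γ(S, ⊤)] Γ(Y, ⊤)) (b : Γ(T, ⊤) →ₐ[Γ(S, ⊤)] Γ(Y, ⊤)) (ha : a.toRingHom = g.appTop.hom)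
    (hb : b.toRingHom = iY.appTop.hom) :
    Function.Bijective (Algebra.TensorProduct.productMap a b) :=
  bijective_productMap_of_isPushout' _ _ _ _ (isPushout_appTop H) hX hT a b ha hb

/-- the ideal `affIdeal Z` pulls back to the ideal `affIdeal Z'` up to radicals -/
theorem affIdeal_le_radical_map {Z' Z : Scheme.{u}} [Z.IsQuasiAffine] [Z'.IsQuasiAffine] (q : Z' ⟶ Z) :
    affIdeal Z' ≤ ((affIdeal Z).map q.appTop.hom).radical := by
  intro ψ hψ
  rw [Ideal.radical_eq_sInf, Ideal.mem_sInf]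
  rintro P ⟨hP, hPp⟩
  by_contra hn
  rw [mem_affIdeal, isAffineOpen_basicOpen_iff] at hψ
  obtain ⟨z', hz'⟩ := hψ (show (⟨P, hPp⟩ : PrimeSpectrum Γ(Z', ⊤)) ∈ _ from hn)
  obtain ⟨s, hs, hsc⟩ := exists_cover Z
  obtain ⟨φ, hφ, hzφ⟩ := hsc (q z')
  have h1 : z' ∈ Z'.basicOpen (q.appTop φ) := by
    rw [← Scheme.preimage_basicOpen_top]
    exact hzφ
  have h2 : z' ∈ Z'.toSpecΓ ⁻¹ᵁ (PrimeSpectrum.basicOpen (q.appTop φ)) := by
    rw [Z'.toSpecΓ_preimage_basicOpen]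
    exact h1
  have h3 : Z'.toSpecΓ z' ∈ PrimeSpectrum.basicOpen (q.appTop φ) := h2
  rw [hz'] at h3
  exact h3 (hP (Ideal.mem_map_of_mem _ (hs φ hφ)))

theorem appTop_mem_affIdeal {Z' Z : Scheme.{u}} [Z.IsQuasiAffine] (α : Z' ⟶ Z) [IsAffineHom α] {φ : Γ(Z, ⊤)}
    (hφ : φ ∈ affIdeal Z) : α.appTop.hom φ ∈ affIdeal Z' := by
  have : Z'.IsQuasiAffine := .of_isAffineHom α
  rw [mem_affIdeal] at hφ ⊢
  have h : Z'.basicOpen (α.appTop φ) = α ⁻¹ᵁ (Z.basicOpen φ) := by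
    rw [Scheme.preimage_basicOpen_top]
  have h2 := hφ.preimage α
  rw [← h] at h2
  exact h2

/-- **Stability of the ideal.** -/
theorem appTop_mem_radical {Z' Z : Scheme.{u}} [Z.IsQuasiAffine] (α q : Z' ⟶ Z) [IsAffineHom α] {φ : Γ(Z, ⊤)}
    (hφ : φ ∈ affIdeal Z) : α.appTop.hom φ ∈ ((affIdeal Z).map q.appTop.hom).radical := by
  have : Z'.IsQuasiAffine := .of_isAffineHom α
  exact affIdeal_le_radical_map q (appTop_mem_affIdeal α hφ)

end Groth.Agent.ResProp.EF.K895.N6s
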