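import Groth.Agent.ResProp.EF.K895.N6s
import Mathlib.AlgebraicGeometry.Morphisms.FiniteType

/-!
# `A → Γ(E)[1/φ]` is of finite type if `E_φ` is affine and `E ⟶ Spec A` is locally of finite type
-/

set_option autoImplicit false
universe u

open CategoryTheory CategoryTheory.Limits AlgebraicGeometry TopologicalSpace TensorProduct

namespace Groth.Agent.ResProp.EF.K895.N6s

theorem finiteType_away {A : Type u} [CommRing A] {E : Scheme.{u}} [CompactSpace E] [QuasiSeparatedSpace E]
    (q : E ⟶ Spec (.of A)) [LocallyOfFiniteType q] (φ : Γ(E, ⊤)) (hφ : IsAffineOpen (E.basicOpen φ))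
    (f : A →+* Γ(E, ⊤)) (hf : f = ((Scheme.ΓSpecIso (.of A)).inv ≫ q.appTop).hom) :
    ((algebraMap Γ(E, ⊤) (Localization.Away φ)).comp f).FiniteType := by
  have h1 : (q.appLE ⊤ (E.basicOpen φ) le_top).hom.FiniteType :=
    q.finiteType_appLE (isAffineOpen_top _) hφ le_top
  let _ : Algebra Γ(E, ⊤) Γ(E, E.basicOpen φ) := (E.presheaf.map (homOfLE le_top).op).hom.toAlgebra
  have l1 : IsLocalization.Away φ Γ(E, E.basicOpen φ) := isLocalization_of_eq_basicOpen φ _ rfl rfl
  let e := IsLocalization.algEquiv (Submonoid.powers φ) Γ(E, E.basicOpen φ) (Localization.Away φ)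
  have h2 : (algebraMap Γ(E, ⊤) (Localization.Away φ)).comp f =
      (e.toRingEquiv.toRingHom.comp (q.appLE ⊤ (E.basicOpen φ) le_top).hom).comp (Scheme.ΓSpecIso (.of A)).inv.hom := by
    ext a
    have h3 : q.appTop ≫ E.presheaf.map (homOfLE (le_top : E.basicOpen φ ≤ ⊤)).op = q.appLE ⊤ (E.basicOpen φ) le_top := rfl
    have h4 := congrArg (fun ψ => ψ.hom ((Scheme.ΓSpecIso (.of A)).inv.hom a)) h3
    change algebraMap Γ(E, ⊤) (Localization.Away φ) (f a) = e ((q.appLE ⊤ (E.basicOpen φ) le_top).hom _)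
    rw [← h4]
    change _ = e (algebraMap Γ(E, ⊤) Γ(E, E.basicOpen φ) (q.appTop.hom ((Scheme.ΓSpecIso (.of A)).inv.hom a)))
    rw [AlgEquiv.commutes, hf]
    rfl
  rw [h2]
  refine (RingHom.FiniteType.comp (RingHom.FiniteType.of_surjective _ e.surjective) h1).comp
    (RingHom.FiniteType.of_surjective _ ?_)
  exact ((ConcreteCategory.isIso_iff_bijective (Scheme.ΓSpecIso (.of A)).inv).1 inferInstance).2

end Groth.Agent.ResProp.EF.K895.N6s
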