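import Groth.Agent.ResProp.EF.K895.N6s
import Groth.Agent.ResProp.EF.K58.Loc

/-!
# The hypotheses of `K58.Galois` for a quasi-affine quotient
-/

set_option autoImplicit false
universe u

open CategoryTheory CategoryTheory.Limits AlgebraicGeometry TopologicalSpace TensorProduct

namespace Groth.Agent.ResProp.EF.K895.N6s

/-- `locBij` in the form of helper58. -/
theorem locBij58 {E Z R : Scheme.{u}} [Z.IsQuasiAffine] (p : E ⟶ Z) [IsAffineHom p] (s t : R ⟶ E)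
    (h : IsPullback s t p p) (φ : Γ(Z, ⊤)) (hφ : IsAffineOpen (Z.basicOpen φ))
    [Algebra Γ(Z, ⊤) Γ(E, ⊤)] [Algebra Γ(Z, ⊤) Γ(R, ⊤)]
    (hE : algebraMap Γ(Z, ⊤) Γ(E, ⊤) = p.appTop.hom) (hR : algebraMap Γ(Z, ⊤) Γ(R, ⊤) = (s ≫ p).appTop.hom)
    (a b : Γ(E, ⊤) →ₐ[Γ(Z, ⊤)] Γ(R, ⊤)) (ha : a.toRingHom = s.appTop.hom) (hb : b.toRingHom = t.appTop.hom) :
    K58.LocBij φ (Algebra.TensorProduct.productMap a b).toLinearMap :=
  locBij p s t h φ hφ hE hR a b ha hb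

/-- `LocBij` along an isomorphism of the target. -/
theorem locBij_comp {B : Type*} [CommRing B] {X Y Y' : Type*} [AddCommGroup X] [Module B X] [AddCommGroup Y]
    [Module B Y] [AddCommGroup Y'] [Module B Y'] {φ : B} {f : X →ₗ[B] Y} (h : K58.LocBij φ f) (e : Y ≃ₗ[B] Y') :
    K58.LocBij φ (e.toLinearMap ∘ₗ f) := by
  refine ⟨fun x hx => h.1 x (e.injective (by rw [map_zero]; exact hx)), fun y => ?_⟩
  obtain ⟨n, x, hx⟩ := h.2 (e.symm y)
  refine ⟨n, x, ?_⟩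
  change e (f x) = _
  rw [hx, map_smul, LinearEquiv.apply_symm_apply]

/-- Faithful flatness after inverting `φ` with `Z_φ` affine. -/
theorem ff58 {E Z : Scheme.{u}} [Z.IsQuasiAffine] (p : E ⟶ Z) [IsAffineHom p] [Flat p] [Surjective p]
    (φ : Γ(Z, ⊤)) (hφ : IsAffineOpen (Z.basicOpen φ))
    [Algebra Γ(Z, ⊤) Γ(E, ⊤)] (hE : algebraMap Γ(Z, ⊤) Γ(E, ⊤) = p.appTop.hom) :
    Module.FaithfullyFlat (Localization.Away φ) (Localization.Away φ ⊗[Γ(Z, ⊤)] Γ(E, ⊤)) := by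
  have hEqa : E.IsQuasiAffine := .of_isAffineHom p
  set U : Z.Opens := Z.basicOpen φ with hU
  set V : E.Opens := p ⁻¹ᵁ U with hV
  have hVe : V = E.basicOpen (p.appTop φ) := by
    rw [hV, hU, Scheme.preimage_basicOpen_top]
  let iB : Algebra Γ(Z, ⊤) Γ(Z, U) := (Z.presheaf.map (homOfLE le_top).op).hom.toAlgebra
  let iD : Algebra Γ(E, ⊤) Γ(E, V) := (E.presheaf.map (homOfLE le_top).op).hom.toAlgebra
  have l1 : IsLocalization.Away φ Γ(Z, U) := isLocalization_of_eq_basicOpen φ U rfl rfl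
  have l2 : IsLocalization.Away (algebraMap Γ(Z, ⊤) Γ(E, ⊤) φ) Γ(E, V) := by
    rw [hE]
    exact isLocalization_of_eq_basicOpen (p.appTop.hom φ) V hVe rfl
  refine K58.ff_tensor_of_away φ (p.app U).hom ?_ (faithfullyFlat_app p hφ)
  rw [hE]
  ext x
  have e1 : p.appTop ≫ E.presheaf.map (homOfLE (le_top : V ≤ ⊤)).op =
      Z.presheaf.map (homOfLE (le_top : U ≤ ⊤)).op ≫ p.app U := (p.naturality (homOfLE (le_top : U ≤ ⊤)).op).symm
  exact (congrArg (fun ψ => ψ.hom x) e1).symm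

end Groth.Agent.ResProp.EF.K895.N6s
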