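import Groth.Agent.ResProp.EF.K895.MidGeom

/-!
# The fields `mem_I`, `le`, `cover` of `K622.GeoRing`
-/

set_option autoImplicit false
universe u

open CategoryTheory CategoryTheory.Limits AlgebraicGeometry TopologicalSpace TensorProduct

namespace Groth.Agent.ResProp.EF.K895.N6s

variable {R : CommRingCat.{u}} (W : (Spec R).Opens) {ι : Type*} [Finite ι] (s : ι → R)
  (hW : ∀ x : Spec R, x ∈ W ↔ ∃ i, s i ∉ x.asIdeal) (f : R →+* Γ(W.toScheme, ⊤))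
  (hf : f = ((Scheme.ΓSpecIso R).inv ≫ W.ι.appTop).hom) {Z : Scheme.{u}} [Z.IsQuasiAffine] (p : W.toScheme ⟶ Z)
  [IsAffineHom p]

include hW hf

theorem mem_affIdeal_iff_prime [Surjective p] (φ : Γ(Z, ⊤)) :
    φ ∈ affIdeal Z ↔ ∀ P : Ideal Γ(Z, ⊤), P.IsPrime → φ ∉ P →
      ∃ Q : Ideal Γ(W.toScheme, ⊤), Q.IsPrime ∧ (∃ i, f (s i) ∉ Q) ∧ Q.comap p.appTop.hom = P := by
  constructor
  · intro hφ P hP hn
    obtain ⟨e, he⟩ := exists_prime_of_surjective p P hP (fun h => hn (h hφ))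
    exact ⟨_, (W.toScheme.toSpecΓ e : PrimeSpectrum _).2, (mem_range_toSpecΓ_opens W s hW f hf _).1 ⟨e, rfl⟩, he⟩
  · intro h
    rw [affIdeal, PrimeSpectrum.mem_vanishingIdeal]
    intro y hy
    by_contra hn
    obtain ⟨Q, hQ, hi, hQP⟩ := h y.asIdeal y.2 hn
    refine hy ((mem_range_toSpecΓ_iff Z y).2 ?_)
    rw [← hQP]
    exact (exists_notMem_iff W s hW f hf p Q hQ).1 hi

theorem appTop_mem_radical_span (φ : Γ(Z, ⊤)) (hφ : φ ∈ affIdeal Z) :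
    p.appTop.hom φ ∈ (Ideal.span (Set.range fun i => f (s i))).radical := by
  rw [Ideal.radical_eq_sInf, Ideal.mem_sInf]
  rintro Q ⟨hle, hQ⟩
  by_contra hn
  obtain ⟨i, hi⟩ := (exists_notMem_iff W s hW f hf p Q hQ).2 (fun h => hn (h hφ))
  exact hi (hle (Ideal.subset_span ⟨i, rfl⟩))

theorem exists_cover_radical :
    ∃ S : Finset Γ(Z, ⊤), (∀ φ ∈ S, φ ∈ affIdeal Z) ∧
      ∀ i, f (s i) ∈ (Ideal.span (p.appTop.hom '' S)).radical := by
  obtain ⟨S, hS, hS'⟩ := exists_finset_affIdeal Z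
  refine ⟨S, fun φ hφ => hS hφ, fun i => ?_⟩
  rw [Ideal.radical_eq_sInf, Ideal.mem_sInf]
  rintro Q ⟨hle, hQ⟩
  by_contra hn
  refine (exists_notMem_iff W s hW f hf p Q hQ).1 ⟨i, hn⟩ (hS'.trans ?_)
  have h2 : (Q.comap p.appTop.hom).IsRadical := (Ideal.IsPrime.comap p.appTop.hom).isRadical
  rw [h2.radical_le_iff, Ideal.span_le]
  intro φ hφ
  exact hle (Ideal.subset_span ⟨φ, hφ, rfl⟩)

end Groth.Agent.ResProp.EF.K895.N6s
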