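import Mathlib.RingTheory.Coalgebra.Basic
import Mathlib.RingTheory.Bialgebra.Basic
import Mathlib.RingTheory.Flat.Basic
import Mathlib.LinearAlgebra.DirectSum.Finsupp
import Mathlib.LinearAlgebra.FreeModule.PID
import Mathlib.RingTheory.Noetherian.Basic
import Mathlib.LinearAlgebra.TensorProduct.Basis

/-!
# P5: finite subcomodules in matrix form

`k` a principal ideal domain, `O` a coalgebra, free as a `k`-module, `M` a comodule, `I` a stable submodule, `s` a finite
subset of `I`: there are `v : Fin N → M` in `I` and a matrix `R` over `O` with `ρ (v j) = ∑ v i ⊗ R i j`,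
`Δ (R i j) = ∑ R i l ⊗ R l j`, `ε (R i j) = δ_ij` and `s ⊆ span v`.
-/

set_option autoImplicit false

open TensorProduct

namespace Groth.Agent.ResProp.EF.K895.P5

section General

variable {k : Type*} [CommRing k] {O : Type*} [AddCommGroup O] [Module k O]
variable {M : Type*} [AddCommGroup M] [Module k M] {M' : Type*} [AddCommGroup M'] [Module k M']

variable (M) in
/-- `id ⊗ f` -/
def con (f : O →ₗ[k] k) : M ⊗[k] O →ₗ[k] M := (TensorProduct.rid k M).toLinearMap ∘ₗ f.lTensor M

@[simp] theorem con_tmul (f : O →ₗ[k] k) (m : M) (o : O) : con M f (m ⊗ₜ o) = f o • m := by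
  simp [con]

theorem con_nat (f : O →ₗ[k] k) (q : M →ₗ[k] M') (z : M ⊗[k] O) : con M' f (q.rTensor O z) = q (con M f z) := by
  induction z with
  | zero => simp
  | add x y hx hy => simp [hx, hy]
  | tmul m o => simp

/-- linear independence and flatness -/
theorem eq_zero_of_sum_tmul {N : Type*} [AddCommGroup N] [Module k N] [Module.Flat k N] {ι : Type*} [Fintype ι]
    {u : ι → M} (hu : LinearIndependent k u) (z : ι → N) (h : ∑ i, u i ⊗ₜ[k] z i = 0) : z = 0 := by
  classical
  have h1 : Function.Injective ((Fintype.linearCombination k u).rTensor N) :=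
    Module.Flat.rTensor_preserves_injective_linearMap _ (linearIndependent_iff_injective_fintypeLinearCombination.1 hu)
  have h2 : (Fintype.linearCombination k u).rTensor N (∑ i, (Pi.single i 1 : ι → k) ⊗ₜ[k] z i) = 0 := by
    rw [map_sum, ← h]
    refine Finset.sum_congr rfl fun i _ => ?_
    rw [LinearMap.rTensor_tmul, Fintype.linearCombination_apply_single, one_smul]
  have h3 : (∑ i, (Pi.single i 1 : ι → k) ⊗ₜ[k] z i) = 0 := h1 (by rw [h2, map_zero])
  funext j
  have h4 := congrArg (fun w => TensorProduct.lid k N ((LinearMap.proj j : (ι → k) →ₗ[k] k).rTensor N w)) h3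
  simp only [map_sum, LinearMap.rTensor_tmul, LinearMap.proj_apply, TensorProduct.lid_tmul, map_zero] at h4
  rw [Finset.sum_eq_single j] at h4
  · simpa using h4
  · intro i _ hi
    rw [Pi.single_eq_of_ne (Ne.symm hi), zero_smul]
  · intro h
    exact absurd (Finset.mem_univ j) h

end General

section Co

variable {k : Type*} [CommRing k] {O : Type*} [AddCommGroup O] [Module k O] [Coalgebra k O]
variable {M : Type*} [AddCommGroup M] [Module k M] {M' : Type*} [AddCommGroup M'] [Module k M']

/-- `ρ` is a coaction -/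
structure IsCo (ρ : M →ₗ[k] M ⊗[k] O) : Prop where
  coassoc : ∀ m, TensorProduct.assoc k M O O (ρ.rTensor O (ρ m)) = (Coalgebra.comul (R := k) (A := O)).lTensor M (ρ m)
  counit : ∀ m, con M (Coalgebra.counit (R := k) (A := O)) (ρ m) = m

/-- convolution -/
noncomputable def conv (f g : O →ₗ[k] k) : O →ₗ[k] k :=
  (TensorProduct.lid k k).toLinearMap ∘ₗ TensorProduct.map f g ∘ₗ Coalgebra.comul (R := k) (A := O)

/-- the map `M ⊗ (O ⊗ O) → M` given by two functionals -/
noncomputable def con2 (M : Type*) [AddCommGroup M] [Module k M] (f g : O →ₗ[k] k) : M ⊗[k] (O ⊗[k] O) →ₗ[k] M :=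
  (TensorProduct.rid k M).toLinearMap ∘ₗ ((TensorProduct.lid k k).toLinearMap ∘ₗ TensorProduct.map f g).lTensor M

theorem con2_lTensor (f g : O →ₗ[k] k) (z : M ⊗[k] O) :
    con2 M f g ((Coalgebra.comul (R := k) (A := O)).lTensor M z) = con M (conv f g) z := by
  simp only [con2, con, conv, LinearMap.comp_apply, LinearMap.lTensor_comp_apply]

omit [Coalgebra k O] in
theorem con_con (f g : O →ₗ[k] k) (ρ : M →ₗ[k] M ⊗[k] O) (z : M ⊗[k] O) :
    con M f (ρ (con M g z)) = con2 M f g (TensorProduct.assoc k M O O (ρ.rTensor O z)) := by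
  induction z with
  | zero => simp
  | add x y hx hy => simp [hx, hy]
  | tmul m o =>
    rw [con_tmul, map_smul, map_smul, LinearMap.rTensor_tmul]
    generalize ρ m = w
    induction w with
    | zero => simp
    | add x y hx hy => simp [hx, hy, add_tmul]
    | tmul m' o' =>
      simp [con2, smul_smul, mul_comm]

theorem IsCo.con_con {ρ : M →ₗ[k] M ⊗[k] O} (hρ : IsCo ρ) (f g : O →ₗ[k] k) (m : M) :
    con M f (ρ (con M g (ρ m))) = con M (conv f g) (ρ m) := by
  rw [P5.con_con, hρ.coassoc, con2_lTensor]

/-- a submodule which is stable under the coaction -/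
def Stable (ρ : M →ₗ[k] M ⊗[k] O) (T : Submodule k M) : Prop := ∀ (f : O →ₗ[k] k), ∀ x ∈ T, con M f (ρ x) ∈ T

/-- the stable submodule generated by a set -/
def gen (ρ : M →ₗ[k] M ⊗[k] O) (s : Set M) : Submodule k M :=
  Submodule.span k {y | ∃ (f : O →ₗ[k] k) (x : M), x ∈ s ∧ y = con M f (ρ x)}

theorem IsCo.subset_gen {ρ : M →ₗ[k] M ⊗[k] O} (hρ : IsCo ρ) (s : Set M) : s ⊆ gen ρ s := fun x hx =>
  Submodule.subset_span ⟨Coalgebra.counit, x, hx, (hρ.counit x).symm⟩

theorem IsCo.stable_gen {ρ : M →ₗ[k] M ⊗[k] O} (hρ : IsCo ρ) (s : Set M) : Stable ρ (gen ρ s) := by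
  intro f x hx
  refine Submodule.span_induction (p := fun x _ => con M f (ρ x) ∈ gen ρ s) ?_ ?_ ?_ ?_ hx
  · rintro _ ⟨g, x, hx, rfl⟩
    rw [hρ.con_con]
    exact Submodule.subset_span ⟨_, x, hx, rfl⟩
  · simp
  · intro x y _ _ hx hy
    rw [map_add, map_add]
    exact add_mem hx hy
  · intro a x _ hx
    rw [map_smul, map_smul]
    exact Submodule.smul_mem _ _ hx

omit [Coalgebra k O] in
theorem gen_le {ρ : M →ₗ[k] M ⊗[k] O} {s : Set M} {T : Submodule k M} (hT : Stable ρ T) (hs : s ⊆ T) : gen ρ s ≤ T :=
  Submodule.span_le.2 (by rintro _ ⟨f, x, hx, rfl⟩; exact hT f x (hs hx))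

omit [Coalgebra k O] in
/-- finite generation -/
theorem fg_gen [IsNoetherianRing k] (ρ : M →ₗ[k] M ⊗[k] O) {s : Set M} (hs : s.Finite) : (gen ρ s).FG := by
  classical
  have key : ∀ z : M ⊗[k] O, ∃ t : Finset M, ∀ f : O →ₗ[k] k, con M f z ∈ Submodule.span k (t : Set M) := by
    intro z
    induction z with
    | zero => exact ⟨∅, fun f => by simp⟩
    | add x y hx hy =>
      obtain ⟨t, ht⟩ := hx
      obtain ⟨t', ht'⟩ := hy
      refine ⟨t ∪ t', fun f => ?_⟩
      rw [map_add, Finset.coe_union]
      exact add_mem (Submodule.span_mono Set.subset_union_left (ht f))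
        (Submodule.span_mono Set.subset_union_right (ht' f))
    | tmul m o =>
      refine ⟨{m}, fun f => ?_⟩
      rw [con_tmul]
      exact Submodule.smul_mem _ _ (Submodule.subset_span (by simp))
  choose t ht using fun x : M => key (ρ x)
  let T : Finset M := hs.toFinset.biUnion t
  have hle : gen ρ s ≤ Submodule.span k (T : Set M) := by
    refine Submodule.span_le.2 ?_
    rintro _ ⟨f, x, hx, rfl⟩
    refine Submodule.span_mono ?_ (ht x f)
    intro y hy
    exact Finset.mem_coe.2 (Finset.mem_biUnion.2 ⟨x, hs.mem_toFinset.2 hx, Finset.mem_coe.1 hy⟩)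
  exact Submodule.FG.of_le ⟨T, rfl⟩ hle

omit [Coalgebra k O] in
/-- expansion in a basis of `O` -/
theorem exists_expand [Module.Free k O] (z : M ⊗[k] O) {T : Submodule k M} (hz : ∀ f : O →ₗ[k] k, con M f z ∈ T) :
    ∃ (n : ℕ) (t : Fin n → M) (o : Fin n → O), (∀ i, t i ∈ T) ∧ z = ∑ i, t i ⊗ₜ[k] o i := by
  classical
  let b := Module.Free.chooseBasis k O
  -- `z = ∑ con (b*_c) z ⊗ b_c` over a finite set of indices
  have key : ∃ s : Finset (Module.Free.ChooseBasisIndex k O), z = ∑ c ∈ s, con M (b.coord c) z ⊗ₜ[k] b c := by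
    have h : ∀ z : M ⊗[k] O, ∃ s : Finset (Module.Free.ChooseBasisIndex k O), ∀ s', s ⊆ s' →
        z = ∑ c ∈ s', con M (b.coord c) z ⊗ₜ[k] b c := by
      intro z
      induction z with
      | zero => exact ⟨∅, fun s' _ => by simp⟩
      | add x y hx hy =>
        obtain ⟨s, hs⟩ := hx
        obtain ⟨t, ht⟩ := hy
        refine ⟨s ∪ t, fun s' hs' => ?_⟩
        conv_lhs => rw [hs s' (Finset.union_subset_left hs'), ht s' (Finset.union_subset_right hs')]
        rw [← Finset.sum_add_distrib]
        refine Finset.sum_congr rfl fun c _ => ?_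
        rw [map_add, add_tmul]
      | tmul m o =>
        refine ⟨(b.repr o).support, fun s' hs' => ?_⟩
        have h1 : o = ∑ c ∈ s', b.repr o c • b c := by
          conv_lhs => rw [← b.linearCombination_repr o, Finsupp.linearCombination_apply]
          exact Finsupp.sum_of_support_subset _ hs' _ (fun _ _ => zero_smul _ _)
        conv_lhs => rw [h1, tmul_sum]
        refine Finset.sum_congr rfl fun c _ => ?_
        rw [con_tmul, Module.Basis.coord_apply, smul_tmul]
    obtain ⟨s, hs⟩ := h z
    exact ⟨s, hs s subset_rfl⟩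
  obtain ⟨s, hs⟩ := key
  let e := s.equivFin
  refine ⟨s.card, fun i => con M (b.coord (e.symm i : s)) z, fun i => b (e.symm i : s), fun i => hz _, ?_⟩
  have h5 : ∀ F : Module.Free.ChooseBasisIndex k O → M ⊗[k] O, ∑ c ∈ s, F c = ∑ i : Fin s.card, F (e.symm i : s) := by
    intro F
    rw [← Finset.sum_coe_sort]
    exact (e.symm.sum_comp (fun c : s => F c)).symm
  exact hs.trans (h5 fun c => con M (b.coord c) z ⊗ₜ[k] b c)

/-- the matrix of a finite free stable submodule -/
theorem IsCo.exists_matrix [Module.Free k O] {ρ : M →ₗ[k] M ⊗[k] O} (hρ : IsCo ρ) {T : Submodule k M} (hT : Stable ρ T)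
    {N : ℕ} (u : Fin N → M) (hu : LinearIndependent k u) (huT : Submodule.span k (Set.range u) = T) :
    ∃ R : Matrix (Fin N) (Fin N) O, (∀ j, ρ (u j) = ∑ i, u i ⊗ₜ[k] R i j) ∧
      (∀ i j, Coalgebra.comul (R := k) (R i j) = ∑ l, R i l ⊗ₜ[k] R l j) ∧
      (∀ i j, Coalgebra.counit (R := k) (R i j) = if i = j then 1 else 0) := by
  classical
  have h1 : ∀ j, ∃ r : Fin N → O, ρ (u j) = ∑ i, u i ⊗ₜ[k] r i := by
    intro j
    have hj : u j ∈ T := huT ▸ Submodule.subset_span ⟨j, rfl⟩
    obtain ⟨n, t, o, ht, hz⟩ := exists_expand (ρ (u j)) (T := T) (fun f => hT f _ hj)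
    have h2 : ∀ c, ∃ l : Fin N → k, ∑ i, l i • u i = t c := fun c => by
      have := ht c
      rw [← huT] at this
      exact (Submodule.mem_span_range_iff_exists_fun k).1 this
    choose l hl using h2
    refine ⟨fun i => ∑ c, l c i • o c, ?_⟩
    rw [hz]
    simp only [← hl, sum_tmul, tmul_sum, smul_tmul]
    exact Finset.sum_comm
  choose r hr using h1
  refine ⟨fun i j => r j i, hr, ?_, ?_⟩
  · intro i j
    have h2 := hρ.coassoc (u j)
    rw [hr j, map_sum, map_sum, map_sum] at h2
    simp only [LinearMap.rTensor_tmul, LinearMap.lTensor_tmul, hr, sum_tmul, map_sum,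
      TensorProduct.assoc_tmul] at h2
    rw [Finset.sum_comm] at h2
    have h3 : ∑ i, u i ⊗ₜ[k] (∑ l, r l i ⊗ₜ[k] r j l - Coalgebra.comul (R := k) (r j i)) = 0 := by
      simp only [tmul_sub, Finset.sum_sub_distrib, tmul_sum]
      rw [h2, sub_self]
    have h4 := eq_zero_of_sum_tmul hu _ h3
    have h5 := congrFun h4 i
    exact (sub_eq_zero.1 h5).symm
  · intro i j
    have h2 := hρ.counit (u j)
    rw [hr j, map_sum] at h2
    simp only [con_tmul] at h2
    have h3 : ∑ l, (Coalgebra.counit (R := k) (r j l) - if l = j then 1 else 0) • u l = 0 := by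
      simp only [sub_smul, Finset.sum_sub_distrib, h2, ite_smul, one_smul, zero_smul, Finset.sum_ite_eq',
        Finset.mem_univ, if_true, sub_self]
    have h4 := Fintype.linearIndependent_iff.1 hu _ h3 i
    exact sub_eq_zero.1 h4

/-- the cofree comodule `X ⊗ O` -/
noncomputable def cof (X : Type*) [AddCommGroup X] [Module k X] : X ⊗[k] O →ₗ[k] (X ⊗[k] O) ⊗[k] O :=
  (TensorProduct.assoc k X O O).symm.toLinearMap ∘ₗ (Coalgebra.comul (R := k) (A := O)).lTensor X

theorem isCo_cof (X : Type*) [AddCommGroup X] [Module k X] : IsCo (k := k) (O := O) (cof X) := by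
  constructor
  · intro m
    induction m with
    | zero => simp
    | add x y hx hy => simp only [map_add, hx, hy]
    | tmul x o =>
      have hL : ∀ w : O ⊗[k] O, TensorProduct.assoc k (X ⊗[k] O) O O
          ((cof X).rTensor O ((TensorProduct.assoc k X O O).symm (x ⊗ₜ w))) =
          (TensorProduct.assoc k X O (O ⊗[k] O)).symm
            (x ⊗ₜ TensorProduct.assoc k O O O ((Coalgebra.comul (R := k) (A := O)).rTensor O w)) := by
        intro w
        induction w with
        | zero => simp
        | add a b ha hb => simp only [map_add, tmul_add, ha, hb]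
        | tmul a b =>
          simp only [TensorProduct.assoc_symm_tmul, LinearMap.rTensor_tmul, cof, LinearMap.comp_apply,
            LinearMap.lTensor_tmul, LinearEquiv.coe_coe]
          generalize (Coalgebra.comul (R := k) (A := O)) a = v
          induction v with
          | zero => simp
          | add a b ha hb => simp only [map_add, tmul_add, add_tmul, ha, hb]
          | tmul c d => simp
      have hR : ∀ w : O ⊗[k] O, (Coalgebra.comul (R := k) (A := O)).lTensor (X ⊗[k] O)
          ((TensorProduct.assoc k X O O).symm (x ⊗ₜ w)) =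
          (TensorProduct.assoc k X O (O ⊗[k] O)).symm
            (x ⊗ₜ (Coalgebra.comul (R := k) (A := O)).lTensor O w) := by
        intro w
        induction w with
        | zero => simp
        | add a b ha hb => simp only [map_add, tmul_add, ha, hb]
        | tmul a b => simp
      have hc : cof (k := k) X (x ⊗ₜ o) = (TensorProduct.assoc k X O O).symm (x ⊗ₜ Coalgebra.comul (R := k) o) := by
        simp [cof]
      rw [hc, hL, hR, Coalgebra.coassoc_apply]
  · intro m
    induction m with
    | zero => simp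
    | add x y hx hy => simp only [map_add, hx, hy]
    | tmul x o =>
      have hc : cof (k := k) X (x ⊗ₜ o) = (TensorProduct.assoc k X O O).symm (x ⊗ₜ Coalgebra.comul (R := k) o) := by
        simp [cof]
      have h1 : ∀ w : O ⊗[k] O, con (X ⊗[k] O) (Coalgebra.counit (R := k) (A := O))
          ((TensorProduct.assoc k X O O).symm (x ⊗ₜ w)) = x ⊗ₜ con O (Coalgebra.counit (R := k) (A := O)) w := by
        intro w
        induction w with
        | zero => simp
        | add a b ha hb => simp only [map_add, tmul_add, ha, hb]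
        | tmul a b => simp
      rw [hc, h1]
      congr 1
      simp [con]

/-- the coaction is a morphism to the cofree comodule -/
theorem IsCo.cof_comp {ρ : M →ₗ[k] M ⊗[k] O} (hρ : IsCo ρ) (m : M) : cof M (ρ m) = ρ.rTensor O (ρ m) := by
  rw [cof, LinearMap.comp_apply, ← hρ.coassoc]
  simp

/-- functoriality of the cofree comodule -/
theorem cof_nat {X X' : Type*} [AddCommGroup X] [Module k X] [AddCommGroup X'] [Module k X'] (q : X →ₗ[k] X')
    (z : X ⊗[k] O) : (q.rTensor O).rTensor O (cof X z) = cof X' (q.rTensor O z) := by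
  induction z with
  | zero => simp
  | add x y hx hy => simp only [map_add, hx, hy]
  | tmul x o =>
    simp only [cof, LinearMap.comp_apply, LinearMap.lTensor_tmul, LinearMap.rTensor_tmul, LinearEquiv.coe_coe]
    generalize (Coalgebra.comul (R := k) (A := O)) o = v
    induction v with
    | zero => simp
    | add a b ha hb => simp only [map_add, tmul_add, ha, hb]
    | tmul c d => simp

/-- **P5**, pure algebra. -/
theorem exists_matrix [IsDomain k] [IsPrincipalIdealRing k] [Module.Free k O] {ρ : M →ₗ[k] M ⊗[k] O} (hρ : IsCo ρ)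
    {I : Submodule k M} (hI : Stable ρ I) {s : Set M} (hs : s.Finite) (hsI : s ⊆ I) :
    ∃ (N : ℕ) (v : Fin N → M) (R : Matrix (Fin N) (Fin N) O), (∀ j, v j ∈ I) ∧ s ⊆ Submodule.span k (Set.range v) ∧
      (∀ j, ρ (v j) = ∑ i, v i ⊗ₜ[k] R i j) ∧
      (∀ i j, Coalgebra.comul (R := k) (R i j) = ∑ l, R i l ⊗ₜ[k] R l j) ∧
      (∀ i j, Coalgebra.counit (R := k) (R i j) = if i = j then 1 else 0) := by
  classical
  -- the finitely generated stable submodule
  obtain ⟨t, ht⟩ := fg_gen (O := O) ρ hs
  have hVI : gen ρ s ≤ I := gen_le hI hsI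
  have hVs := hρ.stable_gen s
  -- the surjection `k^t → V`
  let q : (t → k) →ₗ[k] M := Fintype.linearCombination k (fun i : t => (i : M))
  have hq : LinearMap.range q = gen ρ s := by
    rw [← ht, Fintype.range_linearCombination]
    simp
  let P : Submodule k ((t → k) ⊗[k] O) := ((gen ρ s).map ρ).comap (q.rTensor O)
  have hP : Stable (cof (t → k)) P := by
    intro f z hz
    obtain ⟨w, hw, hwz⟩ := hz
    refine ⟨con M f (ρ w), hVs f w hw, ?_⟩
    rw [← con_nat f ρ, ← con_nat f (q.rTensor O), cof_nat, ← hwz, hρ.cof_comp]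
  have hlift : ∀ w : M, w ∈ gen ρ s → ∃ p ∈ P, q.rTensor O p = ρ w := by
    intro w hw
    obtain ⟨n, a, o, ha, hz⟩ := exists_expand (ρ w) (T := gen ρ s) (fun f => hVs f _ hw)
    have h1 : ∀ i, ∃ b, q b = a i := fun i => by
      have := ha i
      rw [← hq] at this
      exact this
    choose b hb using h1
    have h2 : q.rTensor O (∑ i, b i ⊗ₜ[k] o i) = ρ w := by
      rw [hz, map_sum]
      exact Finset.sum_congr rfl fun i _ => by rw [LinearMap.rTensor_tmul, hb]
    exact ⟨_, ⟨w, hw, h2.symm⟩, h2⟩
  choose p hpP hp using hlift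
  have hts : ∀ i : t, (i : M) ∈ gen ρ s := fun i => by
    rw [← ht]; exact Submodule.subset_span i.2
  let S' : Set ((t → k) ⊗[k] O) := Set.range fun i : t => p i (hts i)
  have hS' : S'.Finite := Set.finite_range _
  have hco := isCo_cof (k := k) (O := O) (t → k)
  let T := gen (cof (k := k) (O := O) (t → k)) S'
  have hTP : T ≤ P := gen_le hP (by rintro _ ⟨i, rfl⟩; exact hpP _ _)
  have hTfg : T.FG := fg_gen _ hS'
  have hTst : Stable (cof (t → k)) T := hco.stable_gen S'
  -- `T` is free
  have hTfin : Module.Finite k T := Module.Finite.iff_fg.2 hTfg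
  obtain ⟨N, u⟩ := Module.basisOfFiniteTypeTorsionFree' (R := k) (M := T)
  have hui : LinearIndependent k fun i => (u i : (t → k) ⊗[k] O) :=
    u.linearIndependent.map' T.subtype (Submodule.ker_subtype T)
  have huspan : Submodule.span k (Set.range fun i => (u i : (t → k) ⊗[k] O)) = T := by
    have h := congrArg (Submodule.map T.subtype) u.span_eq
    rw [Submodule.map_span, Submodule.map_top, Submodule.range_subtype] at h
    refine Eq.trans ?_ h
    congr 1
    ext x
    simp
  obtain ⟨R, hR1, hR2, hR3⟩ := hco.exists_matrix hTst _ hui huspan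
  let φ : (t → k) ⊗[k] O →ₗ[k] M := con M (Coalgebra.counit (R := k) (A := O)) ∘ₗ q.rTensor O
  have hφP : ∀ z ∈ P, φ z ∈ gen ρ s ∧ q.rTensor O z = ρ (φ z) := by
    rintro z ⟨w, hw, hwz⟩
    have : φ z = w := by
      change con M _ (q.rTensor O z) = w
      rw [← hwz, hρ.counit]
    rw [this]
    exact ⟨hw, hwz.symm⟩
  refine ⟨N, fun j => φ (u j), R, fun j => hVI (hφP _ (hTP (u j).2)).1, ?_, ?_, hR2, hR3⟩
  · -- `s ⊆ span`
    have h1 : ∀ i : t, (i : M) ∈ Submodule.span k (Set.range fun j => φ (u j)) := by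
      intro i
      have h2 : φ (p i (hts i)) = i := by
        change con M _ (q.rTensor O (p i (hts i))) = i
        rw [hp, hρ.counit]
      have h3 : p i (hts i) ∈ T := hco.subset_gen S' ⟨i, rfl⟩
      rw [← huspan] at h3
      have h4 := Submodule.mem_map_of_mem (f := φ) h3
      rw [Submodule.map_span, h2] at h4
      refine Submodule.span_mono ?_ h4
      rintro _ ⟨_, ⟨j, rfl⟩, rfl⟩
      exact ⟨j, rfl⟩
    have h2 : gen ρ s ≤ Submodule.span k (Set.range fun j => φ (u j)) := by
      rw [← ht, Submodule.span_le]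
      intro x hx
      exact h1 ⟨x, hx⟩
    exact fun x hx => h2 (hρ.subset_gen s hx)
  · intro j
    have h1 := hR1 j
    have h2 : q.rTensor O (u j : (t → k) ⊗[k] O) = ρ (φ (u j)) := (hφP _ (hTP (u j).2)).2
    have h3 : ∀ z : (t → k) ⊗[k] O, φ.rTensor O (cof (t → k) z) = q.rTensor O z := by
      intro z
      have h4 : φ.rTensor O (cof (t → k) z) =
          (con M (Coalgebra.counit (R := k) (A := O))).rTensor O (cof M (q.rTensor O z)) := by
        rw [← cof_nat, ← LinearMap.rTensor_comp_apply]
      have h5 : ∀ y : M ⊗[k] O, (con M (Coalgebra.counit (R := k) (A := O))).rTensor O (cof M y) = y := by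
        intro y
        induction y with
        | zero => simp
        | add a b ha hb => simp only [map_add, ha, hb]
        | tmul m o =>
          have h6 : ∀ w : O ⊗[k] O, (con M (Coalgebra.counit (R := k) (A := O))).rTensor O
              ((TensorProduct.assoc k M O O).symm (m ⊗ₜ w)) =
              m ⊗ₜ (TensorProduct.lid k O ((Coalgebra.counit (R := k) (A := O)).rTensor O w)) := by
            intro w
            induction w with
            | zero => simp
            | add a b ha hb => simp only [map_add, tmul_add, ha, hb]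
            | tmul a b => simp [smul_tmul]
          have hc : cof (k := k) M (m ⊗ₜ o) =
              (TensorProduct.assoc k M O O).symm (m ⊗ₜ Coalgebra.comul (R := k) o) := by
            simp [cof]
          rw [hc, h6]
          simp
      rw [h4, h5]
    rw [← h2, ← h3, h1, map_sum]
    exact Finset.sum_congr rfl fun i _ => LinearMap.rTensor_tmul _ _ _ _

end Co

end Groth.Agent.ResProp.EF.K895.P5
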