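import Groth.Agent.ResProp.EF.K895.P5Geom
import Mathlib.RingTheory.HopfAlgebra.Convolution
import Mathlib.RingTheory.LocalRing.ResidueField.Ideal
import Mathlib.RingTheory.TensorProduct.Nontrivial

/-!
# M3: stability of the ideal of the complement, and the equivariant vector `φ`
-/

set_option autoImplicit false
universe u

open TensorProduct

namespace Groth.Agent.ResProp.EF.K895.M3

open Groth.Agent.ResProp.EF.K895.P5

variable {k : Type u} [CommRing k] {O : Type u} [CommRing O] [HopfAlgebra k O]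

/-- the point `z` moved by `g` -/
noncomputable def mv {B : Type u} [CommRing B] [Algebra k B] (ρ : B →ₐ[k] B ⊗[k] O) {T : Type u} [CommRing T]
    [Algebra k T] (z : B →ₐ[k] T) (g : O →ₐ[k] T) : B →ₐ[k] T :=
  (Algebra.TensorProduct.productMap z g).comp ρ

/-- moving by `g` and then by `g⁻¹` -/
theorem mv_mv {B : Type u} [CommRing B] [Algebra k B] (ρ : B →ₐ[k] B ⊗[k] O) (hρ : IsCo ρ.toLinearMap) {T : Type u}
    [CommRing T] [Algebra k T] (z : B →ₐ[k] T) (g : O →ₐ[k] T) :
    mv ρ (mv ρ z g) (g.comp (HopfAlgebra.antipodeAlgHom k O)) = z := by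
  let Ψ : B ⊗[k] (O ⊗[k] O) →ₗ[k] T := LinearMap.mul' k T ∘ₗ TensorProduct.map z.toLinearMap
    (g.toLinearMap ∘ₗ LinearMap.mul' k O ∘ₗ (HopfAlgebra.antipode k (A := O)).lTensor O)
  have hΨ : ∀ (b : B) (o o' : O), Ψ (b ⊗ₜ (o ⊗ₜ o')) = z b * (g o * g (HopfAlgebra.antipode k o')) := by
    intro b o o'
    change z b * g (o * HopfAlgebra.antipode k o') = _
    rw [map_mul]
  have h1 : ∀ w : B ⊗[k] O, Algebra.TensorProduct.productMap (mv ρ z g) (g.comp (HopfAlgebra.antipodeAlgHom k O)) w =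
      Ψ (TensorProduct.assoc k B O O (ρ.toLinearMap.rTensor O w)) := by
    intro w
    induction w with
    | zero => simp
    | add x y hx hy => simp only [map_add, hx, hy]
    | tmul b o =>
      rw [Algebra.TensorProduct.productMap_apply_tmul, LinearMap.rTensor_tmul, AlgHom.toLinearMap_apply]
      change Algebra.TensorProduct.productMap z g (ρ b) * g (HopfAlgebra.antipode k o) = _
      generalize ρ b = v
      induction v with
      | zero => simp
      | add x y hx hy => simp only [map_add, add_mul, add_tmul, hx, hy]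
      | tmul c d =>
        rw [Algebra.TensorProduct.productMap_apply_tmul, TensorProduct.assoc_tmul, hΨ, mul_assoc]
  have h2 : ∀ w : B ⊗[k] O, Ψ ((Coalgebra.comul (R := k) (A := O)).lTensor B w) =
      z (con B (Coalgebra.counit (R := k) (A := O)) w) := by
    intro w
    induction w with
    | zero => simp
    | add x y hx hy => simp only [map_add, hx, hy]
    | tmul b o =>
      rw [LinearMap.lTensor_tmul, con_tmul]
      change z b * g (LinearMap.mul' k O ((HopfAlgebra.antipode k (A := O)).lTensor O (Coalgebra.comul o))) = _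
      rw [HopfAlgebra.mul_antipode_lTensor_comul_apply, AlgHom.commutes, map_smul, mul_comm, Algebra.smul_def]
  ext x
  change Algebra.TensorProduct.productMap (mv ρ z g) (g.comp (HopfAlgebra.antipodeAlgHom k O)) (ρ x) = z x
  rw [h1]
  have h3 := hρ.coassoc x
  have h4 := hρ.counit x
  rw [AlgHom.toLinearMap_apply] at h3 h4
  rw [h3, h2, h4]

/-- two points of fields over the same point have a common extension -/
theorem exists_common {B D : Type u} [CommRing B] [CommRing D] [Algebra B D] {K : Type u} [Field K] (z : B →+* K)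
    (Q : Ideal D) [Q.IsPrime] (hQ : Q.comap (algebraMap B D) = RingHom.ker z) :
    ∃ (K' : Type u) (_ : Field K') (j : K →+* K') (d : D →+* K'), RingHom.ker d = Q ∧
      d.comp (algebraMap B D) = j.comp z := by
  let L := Q.ResidueField
  let y : D →+* L := algebraMap D L
  have hy : RingHom.ker y = Q := Q.ker_algebraMap_residueField
  let R := B ⧸ RingHom.ker z
  let fK : R →+* K := RingHom.kerLift z
  have hfK : Function.Injective fK := RingHom.kerLift_injective z
  let fL : R →+* L := Ideal.Quotient.lift (RingHom.ker z) (y.comp (algebraMap B D)) (by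
    intro a ha
    rw [← hQ, Ideal.mem_comap, ← hy] at ha
    exact ha)
  have hfL : Function.Injective fL := by
    refine RingHom.lift_injective_of_ker_le_ideal _ _ ?_
    intro a ha
    rw [← hQ]
    have : algebraMap B D a ∈ RingHom.ker y := ha
    rw [hy] at this
    exact this
  let _ : Algebra R K := fK.toAlgebra
  let _ : Algebra R L := fL.toAlgebra
  have hnt : Nontrivial (K ⊗[R] L) :=
    Algebra.TensorProduct.nontrivial_of_algebraMap_injective_of_isDomain R K L hfK hfL
  obtain ⟨m, hm⟩ := Ideal.exists_maximal (K ⊗[R] L)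
  let q := Ideal.Quotient.mk m
  let _ : Field ((K ⊗[R] L) ⧸ m) := Ideal.Quotient.field m
  let jK : K →+* (K ⊗[R] L) ⧸ m := q.comp (Algebra.TensorProduct.includeLeftRingHom)
  let jL : L →+* (K ⊗[R] L) ⧸ m := q.comp (Algebra.TensorProduct.includeRight (R := R) (A := K) (B := L)).toRingHom
  refine ⟨(K ⊗[R] L) ⧸ m, inferInstance, jK, jL.comp y, ?_, ?_⟩
  · rw [← RingHom.comap_ker, (RingHom.injective_iff_ker_eq_bot jL).1 jL.injective]
    exact hy
  · ext b
    change q ((1 : K) ⊗ₜ[R] (y (algebraMap B D b))) = q (z b ⊗ₜ[R] (1 : L))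
    congr 1
    have h1 : y (algebraMap B D b) = (Ideal.Quotient.mk (RingHom.ker z) b : R) • (1 : L) := by
      rw [Algebra.smul_def, mul_one]
      rfl
    have h2 : z b = (Ideal.Quotient.mk (RingHom.ker z) b : R) • (1 : K) := by
      rw [Algebra.smul_def, mul_one]
      rfl
    rw [h1, h2, ← TensorProduct.smul_tmul]

section Main

variable {B0 D0 : Type u} [CommRing B0] [CommRing D0] [Algebra k B0] [Algebra k D0] [Algebra B0 D0]
  [IsScalarTower k B0 D0]

/-- moving commutes with a comodule algebra map -/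
theorem mv_comp (ρD : D0 →ₐ[k] D0 ⊗[k] O) (ρB : B0 →ₐ[k] B0 ⊗[k] O)
    (hc : ∀ b, ρD (algebraMap B0 D0 b) = (Algebra.TensorProduct.map (IsScalarTower.toAlgHom k B0 D0) (AlgHom.id k O)) (ρB b))
    {T : Type u} [CommRing T] [Algebra k T] (z : D0 →ₐ[k] T) (g : O →ₐ[k] T) :
    (mv ρD z g).comp (IsScalarTower.toAlgHom k B0 D0) = mv ρB (z.comp (IsScalarTower.toAlgHom k B0 D0)) g := by
  ext b
  change Algebra.TensorProduct.productMap z g (ρD (algebraMap B0 D0 b)) =
    Algebra.TensorProduct.productMap (z.comp (IsScalarTower.toAlgHom k B0 D0)) g (ρB b)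
  rw [hc]
  generalize ρB b = v
  induction v with
  | zero => simp
  | add x y hx hy => simp only [map_add, hx, hy]
  | tmul c d => simp

/-- **M3 (a)**: the ideal is stable up to radicals. -/
theorem mem_radical (ρD : D0 →ₐ[k] D0 ⊗[k] O) (ρB : B0 →ₐ[k] B0 ⊗[k] O) (hρ : IsCo ρB.toLinearMap)
    (hc : ∀ b, ρD (algebraMap B0 D0 b) = (Algebra.TensorProduct.map (IsScalarTower.toAlgHom k B0 D0) (AlgHom.id k O)) (ρB b))
    {ι : Type*} (s : ι → D0) (χ : O) (hχ : IsUnit χ) (hs : ∀ i, ρD (s i) = s i ⊗ₜ χ) (I : Ideal B0)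
    (cov : ∀ P : Ideal D0, P.IsPrime → ((∃ i, s i ∉ P) ↔ ¬ I ≤ P.comap (algebraMap B0 D0)))
    (surj : ∀ P : Ideal B0, P.IsPrime → ¬ I ≤ P → ∃ Q : Ideal D0, Q.IsPrime ∧ Q.comap (algebraMap B0 D0) = P)
    (φ : B0) (hφ : φ ∈ I) :
    ρB φ ∈ (I.map (Algebra.TensorProduct.includeLeft (R := k) (S := k) (A := B0) (B := O))).radical := by
  rw [Ideal.radical_eq_sInf, Ideal.mem_sInf]
  rintro P ⟨hP, hPp⟩
  by_contra hn
  -- the residue field of `P`
  let K := P.ResidueField
  let e : B0 ⊗[k] O →ₐ[k] K := IsScalarTower.toAlgHom k (B0 ⊗[k] O) K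
  have he : ∀ w, e w = 0 ↔ w ∈ P := fun w => Ideal.algebraMap_residueField_eq_zero
  let z : B0 →ₐ[k] K := e.comp Algebra.TensorProduct.includeLeft
  let g : O →ₐ[k] K := e.comp Algebra.TensorProduct.includeRight
  have hzg : Algebra.TensorProduct.productMap z g = e := by
    refine Algebra.TensorProduct.ext' fun a b => ?_
    rw [Algebra.TensorProduct.productMap_apply_tmul]
    change e (a ⊗ₜ 1) * e (1 ⊗ₜ b) = _
    rw [← map_mul, Algebra.TensorProduct.tmul_mul_tmul, one_mul, mul_one]
  have hzI : ∀ b ∈ I, z b = 0 := fun b hb => (he _).2 (hP (Ideal.mem_map_of_mem _ hb))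
  let z' := mv ρB z g
  have hz' : z' φ ≠ 0 := by
    change Algebra.TensorProduct.productMap z g (ρB φ) ≠ 0
    rw [hzg]
    exact fun h => hn ((he _).1 h)
  have hkp : (RingHom.ker z'.toRingHom).IsPrime := RingHom.ker_isPrime _
  obtain ⟨Q, hQ, hQP⟩ := surj (RingHom.ker z'.toRingHom) hkp (fun h => hz' (h hφ))
  obtain ⟨K', _, j, d, hd, hdj⟩ := exists_common z'.toRingHom Q hQP
  let _ : Algebra k K' := (j.comp (algebraMap k K)).toAlgebra
  let jA : K →ₐ[k] K' := { j with commutes' := fun _ => rfl }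
  let d' : D0 →ₐ[k] K' := { d with
    commutes' := fun r => by
      have h1 := RingHom.congr_fun hdj (algebraMap k B0 r)
      change d (algebraMap B0 D0 (algebraMap k B0 r)) = j (z' (algebraMap k B0 r)) at h1
      rw [AlgHom.commutes, ← IsScalarTower.algebraMap_apply] at h1
      exact h1 }
  have hd' : d'.comp (IsScalarTower.toAlgHom k B0 D0) = jA.comp z' := by
    ext b
    exact RingHom.congr_fun hdj b
  let g' : O →ₐ[k] K' := (jA.comp g).comp (HopfAlgebra.antipodeAlgHom k O)
  -- some `s i` does not vanish at `d`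
  obtain ⟨i, hi⟩ := (cov Q hQ).2 (by
    rw [hQP]
    exact fun h => hz' (h hφ))
  have hdi : d' (s i) ≠ 0 := by
    intro h
    apply hi
    rw [← hd]
    exact h
  have h1 : mv ρD d' g' (s i) ≠ 0 := by
    change Algebra.TensorProduct.productMap d' g' (ρD (s i)) ≠ 0
    rw [hs, Algebra.TensorProduct.productMap_apply_tmul]
    exact mul_ne_zero hdi (hχ.map g').ne_zero
  have hkp' : (RingHom.ker (mv ρD d' g').toRingHom).IsPrime := RingHom.ker_isPrime _
  refine (cov (RingHom.ker (mv ρD d' g').toRingHom) hkp').1 ⟨i, h1⟩ ?_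
  intro b hb
  change mv ρD d' g' (algebraMap B0 D0 b) = 0
  have h2 : (mv ρD d' g').comp (IsScalarTower.toAlgHom k B0 D0) = jA.comp z := by
    rw [mv_comp ρD ρB hc, hd']
    have h3 : jA.comp z' = mv ρB (jA.comp z) (jA.comp g) := by
      ext b
      change jA (Algebra.TensorProduct.productMap z g (ρB b)) =
        Algebra.TensorProduct.productMap (jA.comp z) (jA.comp g) (ρB b)
      generalize ρB b = v
      induction v with
      | zero => simp
      | add x y hx hy => simp only [map_add, hx, hy]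
      | tmul c d => simp
    rw [h3]
    exact mv_mv ρB hρ _ _
  have h4 := AlgHom.congr_fun h2 b
  change mv ρD d' g' (algebraMap B0 D0 b) = j (z b) at h4
  rw [h4, hzI b hb, map_zero]

open Groth.Agent.ResProp.EF.K542 in
/-- **M3**: the equivariant vector `φ` whose entries generate the ideal of the complement up to radicals. -/
theorem exists_phi [IsDomain k] [IsPrincipalIdealRing k] [Module.Free k O] (hO : KeepsRed k O)
    (ρD : D0 →ₐ[k] D0 ⊗[k] O) (ρB : B0 →ₐ[k] B0 ⊗[k] O) (hρ : IsCo ρB.toLinearMap)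
    (hc : ∀ b, ρD (algebraMap B0 D0 b) = (Algebra.TensorProduct.map (IsScalarTower.toAlgHom k B0 D0) (AlgHom.id k O)) (ρB b))
    {ι : Type*} (s : ι → D0) (χ : O) (hχ : IsUnit χ) (hs : ∀ i, ρD (s i) = s i ⊗ₜ χ) (I : Ideal B0) (rad : I.IsRadical)
    (fin : ∃ S : Finset B0, (S : Set B0) ⊆ I ∧ I ≤ (Ideal.span (S : Set B0)).radical)
    (cov : ∀ P : Ideal D0, P.IsPrime → ((∃ i, s i ∉ P) ↔ ¬ I ≤ P.comap (algebraMap B0 D0)))
    (surj : ∀ P : Ideal B0, P.IsPrime → ¬ I ≤ P → ∃ Q : Ideal D0, Q.IsPrime ∧ Q.comap (algebraMap B0 D0) = P) :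
    ∃ (N : ℕ) (φ : Fin (N + 1) → B0) (R : Matrix (Fin (N + 1)) (Fin (N + 1)) O), (∀ j, φ j ∈ I) ∧
      I ≤ (Ideal.span (Set.range φ)).radical ∧
      (∀ j, ρB (φ j) = ∑ i, φ i ⊗ₜ[k] R i j) ∧
      (∀ i j, Coalgebra.comul (R := k) (R i j) = ∑ l, R i l ⊗ₜ[k] R l j) ∧
      (∀ i j, Coalgebra.counit (R := k) (R i j) = if i = j then 1 else 0) := by
  classical
  have hmap : ∀ x ∈ I, ρB x ∈ I.map
      (Algebra.TensorProduct.includeLeft (R := k) (S := k) (A := B0) (B := O)) := by
    intro x hx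
    have hr : I.radical = I := rad.radical
    have h := rho_radical hO ρB I (mem_radical ρD ρB hρ hc s χ hχ hs I cov surj) x (hr.symm ▸ hx)
    rwa [hr] at h
  obtain ⟨S, hSI, hS⟩ := fin
  obtain ⟨N, v, R, hv, hsv, h1, h2, h3⟩ := exists_matrix hρ
    (stable_of_map_le ρB I hmap) (s := (S : Set B0)) S.finite_toSet hSI
  refine ⟨N, Fin.cons 0 v, fun i j => Fin.cases (Fin.cases 1 (fun _ => 0) j) (fun i' => Fin.cases 0 (fun j' => R i' j') j) i,
    ?_, ?_, ?_, ?_, ?_⟩
  · intro j
    refine Fin.cases ?_ (fun j => ?_) j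
    · rw [Fin.cons_zero]
      exact Ideal.zero_mem _
    · rw [Fin.cons_succ]
      exact hv j
  · refine hS.trans (Ideal.radical_mono (Ideal.span_le.2 fun x hx => ?_))
    obtain ⟨c, hc⟩ := (Submodule.mem_span_range_iff_exists_fun k).1 (hsv hx)
    rw [SetLike.mem_coe, ← hc]
    refine Ideal.sum_mem _ fun j _ => ?_
    rw [Algebra.smul_def]
    exact Ideal.mul_mem_left _ _ (Ideal.subset_span ⟨j.succ, by rw [Fin.cons_succ]⟩)
  · intro j
    refine Fin.cases ?_ (fun j => ?_) j
    · rw [Fin.cons_zero, map_zero, Fin.sum_univ_succ]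
      simp
    · have h4 : ρB (v j) = ∑ i, v i ⊗ₜ[k] R i j := h1 j
      rw [Fin.cons_succ, h4, Fin.sum_univ_succ]
      simp
  · intro i j
    refine Fin.cases (Fin.cases ?_ (fun j => ?_) j) (fun i => Fin.cases ?_ (fun j => ?_) j) i
    · rw [Fin.sum_univ_succ]
      simp [Algebra.TensorProduct.one_def]
    · rw [Fin.sum_univ_succ]
      simp
    · rw [Fin.sum_univ_succ]
      simp
    · rw [Fin.sum_univ_succ]
      simp [h2]
  · intro i j
    refine Fin.cases (Fin.cases ?_ (fun j => ?_) j) (fun i => Fin.cases ?_ (fun j => ?_) j) i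
    · simp
    · simp [(Fin.succ_ne_zero j).symm]
    · simp
    · simp [h3]

end Main

end Groth.Agent.ResProp.EF.K895.M3
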