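import Groth.Agent.ResProp.EF.K895.N6e

/-!
# Points of `Spec Γ(E)` and `Spec Γ(Z)` for a quasi-affine quotient `p : E ⟶ Z`
-/

set_option autoImplicit false
universe u

open CategoryTheory CategoryTheory.Limits AlgebraicGeometry TopologicalSpace TensorProduct

namespace Groth.Agent.ResProp.EF.K895.N6s

/-- the points of `Z ⊆ Spec Γ(Z)` -/
theorem mem_range_toSpecΓ_iff (Z : Scheme.{u}) [Z.IsQuasiAffine] (y : PrimeSpectrum Γ(Z, ⊤)) :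
    y ∈ Set.range Z.toSpecΓ ↔ ¬ affIdeal Z ≤ y.asIdeal := by
  constructor
  · rintro ⟨z, hz⟩ hle
    obtain ⟨s, hs, hsc⟩ := exists_cover Z
    obtain ⟨φ, hφ, hzφ⟩ := hsc z
    rw [← Z.toSpecΓ_preimage_basicOpen] at hzφ
    have h : Z.toSpecΓ z ∈ (PrimeSpectrum.basicOpen φ : Opens (PrimeSpectrum Γ(Z, ⊤))) := hzφ
    rw [hz] at h
    exact h (hle (hs φ hφ))
  · intro h
    obtain ⟨φ, hφ, hn⟩ := Set.not_subset.1 h
    exact (isAffineOpen_basicOpen_iff Z φ).1 ((mem_affIdeal Z φ).1 hφ) hn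

theorem comap_toSpecΓ {E Z : Scheme.{u}} (p : E ⟶ Z) (e : E) :
    ((E.toSpecΓ e : PrimeSpectrum Γ(E, ⊤))).asIdeal.comap p.appTop.hom = (Z.toSpecΓ (p e) : PrimeSpectrum Γ(Z, ⊤)).asIdeal := by
  have h : Z.toSpecΓ (p e) = Spec.map p.appTop (E.toSpecΓ e) := by
    rw [← Scheme.Hom.comp_apply, ← Scheme.Hom.comp_apply, Scheme.toSpecΓ_naturality]
  rw [h]
  rfl

/-- `surj` -/
theorem exists_prime_of_surjective {E Z : Scheme.{u}} [Z.IsQuasiAffine] (p : E ⟶ Z) [Surjective p]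
    (P : Ideal Γ(Z, ⊤)) (hP : P.IsPrime) (h : ¬ affIdeal Z ≤ P) :
    ∃ e : E, ((E.toSpecΓ e : PrimeSpectrum Γ(E, ⊤))).asIdeal.comap p.appTop.hom = P := by
  obtain ⟨z, hz⟩ := (mem_range_toSpecΓ_iff Z ⟨P, hP⟩).2 h
  obtain ⟨e, he⟩ := p.surjective z
  refine ⟨e, ?_⟩
  rw [comap_toSpecΓ, he, hz]

/-- `E = p⁻¹ Z` inside `Spec Γ(E)` -/
theorem mem_range_toSpecΓ_iff_comap {E Z : Scheme.{u}} [Z.IsQuasiAffine] (p : E ⟶ Z) [IsAffineHom p]
    (Q : PrimeSpectrum Γ(E, ⊤)) : Q ∈ Set.range E.toSpecΓ ↔ ¬ affIdeal Z ≤ Q.asIdeal.comap p.appTop.hom := by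
  have : E.IsQuasiAffine := .of_isAffineHom p
  constructor
  · rintro ⟨e, rfl⟩
    rw [comap_toSpecΓ]
    exact (mem_range_toSpecΓ_iff Z _).1 ⟨p e, rfl⟩
  · intro h
    obtain ⟨φ, hφ, hn⟩ := Set.not_subset.1 h
    rw [mem_range_toSpecΓ_iff]
    intro hle
    exact hn (hle (appTop_mem_affIdeal p hφ))

/-- the points of an open subset `W = ⋃ D(s i)` of `Spec R`, in terms of `R → Γ(W)` -/
theorem mem_range_toSpecΓ_opens {R : CommRingCat.{u}} (W : (Spec R).Opens) {ι : Type*} [Finite ι] (s : ι → R)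
    (hW : ∀ x : Spec R, x ∈ W ↔ ∃ i, s i ∉ x.asIdeal) (f : R →+* Γ(W.toScheme, ⊤))
    (hf : f = ((Scheme.ΓSpecIso R).inv ≫ W.ι.appTop).hom) (Q : PrimeSpectrum Γ(W.toScheme, ⊤)) :
    Q ∈ Set.range W.toScheme.toSpecΓ ↔ ∃ i, f (s i) ∉ Q.asIdeal := by
  have hbo : ∀ i, W.toScheme.basicOpen (f (s i)) = W.ι ⁻¹ᵁ (PrimeSpectrum.basicOpen (s i)) := by
    intro i
    have h1 : (Spec R).basicOpen ((Scheme.ΓSpecIso R).inv (s i)) = PrimeSpectrum.basicOpen (s i) :=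
      basicOpen_eq_of_affine _
    rw [← h1, Scheme.preimage_basicOpen_top, hf]
    rfl
  have key : ∀ V : Set (PrimeSpectrum R), (∀ x, x ∈ V ↔ ∃ i, s i ∉ x.asIdeal) → IsCompact V := by
    intro V hV
    have : V = ⋃ i, (PrimeSpectrum.basicOpen (s i) : Set (PrimeSpectrum R)) := by
      ext x
      rw [hV, Set.mem_iUnion]
      rfl
    rw [this]
    exact isCompact_iUnion fun i => PrimeSpectrum.isCompact_basicOpen (s i)
  have hc : IsCompact (W : Set (Spec R)) := key (W : Set (Spec R)) hW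
  have : CompactSpace W.toScheme := isCompact_iff_compactSpace.1 hc
  have : W.toScheme.IsQuasiAffine := .of_isImmersion W.ι
  constructor
  · rintro ⟨e, rfl⟩
    obtain ⟨i, hi⟩ := (hW e.1).1 e.2
    refine ⟨i, ?_⟩
    have h1 : e ∈ W.toScheme.basicOpen (f (s i)) := by
      rw [hbo]
      exact hi
    rw [← W.toScheme.toSpecΓ_preimage_basicOpen] at h1
    exact h1
  · rintro ⟨i, hi⟩
    have h1 : IsAffineOpen (W.toScheme.basicOpen (f (s i))) := by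
      rw [hbo]
      refine (IsAffineOpen.Spec_basicOpen (s i)).preimage_of_isOpenImmersion W.ι ?_
      intro x hx
      rw [Scheme.Opens.opensRange_ι]
      exact (hW x).2 ⟨i, hx⟩
    exact (isAffineOpen_basicOpen_iff _ _).1 h1 hi

/-- `cov` -/
theorem exists_notMem_iff {R : CommRingCat.{u}} (W : (Spec R).Opens) {ι : Type*} [Finite ι] (s : ι → R)
    (hW : ∀ x : Spec R, x ∈ W ↔ ∃ i, s i ∉ x.asIdeal) (f : R →+* Γ(W.toScheme, ⊤))
    (hf : f = ((Scheme.ΓSpecIso R).inv ≫ W.ι.appTop).hom) {Z : Scheme.{u}} [Z.IsQuasiAffine] (p : W.toScheme ⟶ Z)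
    [IsAffineHom p] (Q : Ideal Γ(W.toScheme, ⊤)) (hQ : Q.IsPrime) :
    (∃ i, f (s i) ∉ Q) ↔ ¬ affIdeal Z ≤ Q.comap p.appTop.hom :=
  (mem_range_toSpecΓ_opens W s hW f hf ⟨Q, hQ⟩).symm.trans (mem_range_toSpecΓ_iff_comap p ⟨Q, hQ⟩)

/-- `fin` -/
theorem exists_finset_affIdeal (Z : Scheme.{u}) [Z.IsQuasiAffine] :
    ∃ S : Finset Γ(Z, ⊤), (S : Set Γ(Z, ⊤)) ⊆ affIdeal Z ∧ affIdeal Z ≤ (Ideal.span (S : Set Γ(Z, ⊤))).radical := by
  obtain ⟨S, hS, hc⟩ := exists_cover Z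
  refine ⟨S, fun φ hφ => hS φ hφ, ?_⟩
  intro ψ hψ
  rw [Ideal.radical_eq_sInf, Ideal.mem_sInf]
  rintro P ⟨hP, hPp⟩
  by_contra hn
  obtain ⟨z, hz⟩ := (mem_range_toSpecΓ_iff Z ⟨P, hPp⟩).2 (fun h => hn (h hψ))
  obtain ⟨φ, hφ, hzφ⟩ := hc z
  rw [← Z.toSpecΓ_preimage_basicOpen] at hzφ
  have h : Z.toSpecΓ z ∈ (PrimeSpectrum.basicOpen φ : Opens (PrimeSpectrum Γ(Z, ⊤))) := hzφ
  rw [hz] at h
  exact h (hP (Ideal.subset_span hφ))

end Groth.Agent.ResProp.EF.K895.N6s
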