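import Groth.Agent.Pic13.K220.FlatFact
import Groth.Agent.S0082
import Mathlib.AlgebraicGeometry.ZariskisMainTheorem
import Mathlib.AlgebraicGeometry.QuasiAffine

/-!
# N5: the quotient of a scheme by a flat self fibre product is a quasi-affine scheme

`exists_quasiAffine`: `m : E ⟶ W` of finite type, `W` affine Noetherian, `E ×_W E ⟶ E` flat and affine. Then
`m = p ≫ i` with `p` affine, flat, surjective, locally of finite presentation, `i` a monomorphism of finite type,
the source `Z` of `i` quasi-affine, and `E ×_Z E = E ×_W E`.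
-/

set_option autoImplicit false
universe u

open CategoryTheory CategoryTheory.Limits AlgebraicGeometry

namespace Groth.Agent.ResProp.EF.K895.N5

/-- A monomorphism locally of finite type to an affine scheme from a quasi-compact scheme has quasi-affine source
(Zariski's main theorem). -/
theorem isQuasiAffine_of_mono {Z W : Scheme.{u}} [IsAffine W] (i : Z ⟶ W) [Mono i] [LocallyOfFiniteType i]
    [CompactSpace Z] : Z.IsQuasiAffine := by
  have : IsOpenImmersion i.toNormalization := inferInstance
  have : IsAffine i.normalization := isAffine_of_isAffineHom i.fromNormalization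
  exact Scheme.IsQuasiAffine.of_isImmersion i.toNormalization

/-- If `i` is a monomorphism, the self fibre products of `p` and `p ≫ i` agree. -/
theorem isPullback_of_mono {E Z W : Scheme.{u}} (p : E ⟶ Z) (i : Z ⟶ W) [Mono i] :
    IsPullback (pullback.fst (p ≫ i) (p ≫ i)) (pullback.snd (p ≫ i) (p ≫ i)) p p := by
  have h := IsPullback.of_hasPullback (p ≫ i) (p ≫ i)
  refine ⟨⟨?_⟩, ⟨PullbackCone.IsLimit.mk _ (fun s => h.lift s.fst s.snd ?_) ?_ ?_ ?_⟩⟩
  · rw [← cancel_mono i, Category.assoc, Category.assoc]
    exact h.w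
  · rw [← Category.assoc, s.condition, Category.assoc]
  · intro s
    exact h.lift_fst _ _ _
  · intro s
    exact h.lift_snd _ _ _
  · intro s l h1 h2
    apply h.hom_ext
    · rw [h1]
      exact (h.lift_fst _ _ _).symm
    · rw [h2]
      exact (h.lift_snd _ _ _).symm

/-- **N5.** -/
theorem exists_quasiAffine {E W : Scheme.{u}} [IsLocallyNoetherian W] [IsAffine W] [CompactSpace E] (m : E ⟶ W)
    [LocallyOfFiniteType m] [Flat (pullback.fst m m)] [IsAffineHom (pullback.fst m m)] :
    ∃ (Z : Scheme.{u}) (p : E ⟶ Z) (i : Z ⟶ W), p ≫ i = m ∧ Mono i ∧ LocallyOfFiniteType i ∧ Flat p ∧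
      Surjective p ∧ LocallyOfFinitePresentation p ∧ IsAffineHom p ∧ Z.IsQuasiAffine ∧
      IsPullback (pullback.fst m m) (pullback.snd m m) p p := by
  obtain ⟨Z, p, i, hm, hi, hift, hpf, hps, hpfp⟩ := K220.FlatFact.exists_fact m
  subst hm
  have hZ : CompactSpace Z := by
    refine ⟨?_⟩
    rw [← (Scheme.Hom.surjective p).range_eq, ← Set.image_univ]
    exact isCompact_univ.image p.continuous
  have hpb := isPullback_of_mono p i
  have hqa : Z.IsQuasiAffine := isQuasiAffine_of_mono i
  have hqc : QuasiCompact p := inferInstance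
  refine ⟨Z, p, i, rfl, hi, hift, hpf, hps, hpfp, ?_, hqa, hpb⟩
  have := Groth.Agent.S0082.result.{u}
  have h : (@Surjective ⊓ @Flat ⊓ @QuasiCompact : MorphismProperty Scheme.{u}) p := ⟨⟨hps, hpf⟩, hqc⟩
  exact MorphismProperty.of_isPullback_of_descendsAlong (P := @IsAffineHom)
    (Q := (@Surjective ⊓ @Flat ⊓ @QuasiCompact : MorphismProperty Scheme.{u})) hpb h inferInstance

end Groth.Agent.ResProp.EF.K895.N5
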