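import Groth.Agent.ResProp.EF.K895.P5
import Groth.Agent.ResProp.EF.K895.N6e
import Groth.Agent.ResProp.EF.K542.Rad

/-!
# P5 for a quasi-affine scheme with a coaction
-/

set_option autoImplicit false
universe u

open CategoryTheory CategoryTheory.Limits AlgebraicGeometry TopologicalSpace TensorProduct

namespace Groth.Agent.ResProp.EF.K895.P5

open Groth.Agent.ResProp.EF.K895.N6s Groth.Agent.ResProp.EF.K542

variable {k : Type u} [CommRing k] {O : Type u} [CommRing O] [Bialgebra k O]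

/-- `affIdeal Z` is a subcomodule. -/
theorem rho_affIdeal (hO : KeepsRed k O) {Z Z' : Scheme.{u}} [Z.IsQuasiAffine] [Algebra k Γ(Z, ⊤)]
    (ρ : Γ(Z, ⊤) →ₐ[k] Γ(Z, ⊤) ⊗[k] O) (α q : Z' ⟶ Z) [IsAffineHom α] (e : Γ(Z', ⊤) →+* Γ(Z, ⊤) ⊗[k] O)
    (hq : ∀ x, e (q.appTop.hom x) = x ⊗ₜ 1) (hα : ∀ x, e (α.appTop.hom x) = ρ x) :
    ∀ x ∈ affIdeal Z, ρ x ∈ (affIdeal Z).map
      (Algebra.TensorProduct.includeLeft (R := k) (S := k) (A := Γ(Z, ⊤)) (B := O)) := by
  intro x hx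
  have hrad : (affIdeal Z).radical = affIdeal Z := (isRadical_affIdeal Z).radical
  have h := rho_radical hO ρ (affIdeal Z) ?_ x (hrad.symm ▸ hx)
  · rwa [hrad] at h
  · intro b hb
    obtain ⟨n, hn⟩ := appTop_mem_radical α q hb
    refine ⟨n, ?_⟩
    have h1 := Ideal.mem_map_of_mem e hn
    rw [map_pow, hα, Ideal.map_map] at h1
    have h2 : e.comp q.appTop.hom =
        (Algebra.TensorProduct.includeLeft (R := k) (S := k) (A := Γ(Z, ⊤)) (B := O)).toRingHom := by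
      ext x
      exact hq x
    rw [h2] at h1
    exact h1

theorem stable_of_map_le {B : Type u} [CommRing B] [Algebra k B] (ρ : B →ₐ[k] B ⊗[k] O) (I : Ideal B)
    (h : ∀ x ∈ I, ρ x ∈ I.map (Algebra.TensorProduct.includeLeft (R := k) (S := k) (A := B) (B := O))) :
    Stable ρ.toLinearMap (I.restrictScalars k) := by
  intro f x hx
  have h1 := h x hx
  have hmul : ∀ (b : B) (o : O) (g : O →ₗ[k] k) (z : B ⊗[k] O),
      con B g (b ⊗ₜ[k] o * z) = b * con B (g ∘ₗ LinearMap.mulLeft k o) z := by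
    intro b o g z
    induction z with
    | zero => simp
    | add x y hx hy => simp only [mul_add, map_add, hx, hy]
    | tmul c d =>
      rw [Algebra.TensorProduct.tmul_mul_tmul, con_tmul, con_tmul, LinearMap.comp_apply, LinearMap.mulLeft_apply,
        mul_smul_comm]
  have key : ∀ z ∈ I.map (Algebra.TensorProduct.includeLeft (R := k) (S := k) (A := B) (B := O)),
      ∀ g : O →ₗ[k] k, con B g z ∈ I := by
    intro z hz
    refine Submodule.span_induction (p := fun z _ => ∀ g : O →ₗ[k] k, con B g z ∈ I) ?_ ?_ ?_ ?_ hz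
    · rintro _ ⟨y, hy, rfl⟩ g
      change con B g (y ⊗ₜ 1) ∈ I
      rw [con_tmul]
      exact (I.restrictScalars k).smul_mem _ hy
    · intro g
      simp
    · intro x y _ _ hx hy g
      rw [map_add]
      exact add_mem (hx g) (hy g)
    · intro a z _ hz
      induction a with
      | zero => intro g; simp
      | add x y hx hy =>
        intro g
        rw [add_smul, map_add]
        exact add_mem (hx g) (hy g)
      | tmul b o =>
        intro g
        rw [smul_eq_mul, hmul]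
        exact I.mul_mem_left _ (hz _)
  exact key _ h1 f

/-- **P5** for a quasi-affine scheme, from stability of `affIdeal Z` up to radicals. -/
theorem exists_matrix_of_radical [IsDomain k] [IsPrincipalIdealRing k] [Module.Free k O] (hO : KeepsRed k O)
    {Z : Scheme.{u}} [Z.IsQuasiAffine] [Algebra k Γ(Z, ⊤)]
    (ρ : Γ(Z, ⊤) →ₐ[k] Γ(Z, ⊤) ⊗[k] O) (hρ : IsCo ρ.toLinearMap)
    (hrad : ∀ x ∈ affIdeal Z, ρ x ∈ ((affIdeal Z).map
      (Algebra.TensorProduct.includeLeft (R := k) (S := k) (A := Γ(Z, ⊤)) (B := O))).radical) :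
    ∃ (N : ℕ) (v : Fin N → Γ(Z, ⊤)) (R : Matrix (Fin N) (Fin N) O), (∀ j, IsAffineOpen (Z.basicOpen (v j))) ∧
      (∀ z : Z, ∃ j, z ∈ Z.basicOpen (v j)) ∧
      (∀ j, ρ (v j) = ∑ i, v i ⊗ₜ[k] R i j) ∧
      (∀ i j, Coalgebra.comul (R := k) (R i j) = ∑ l, R i l ⊗ₜ[k] R l j) ∧
      (∀ i j, Coalgebra.counit (R := k) (R i j) = if i = j then 1 else 0) := by
  have hmap : ∀ x ∈ affIdeal Z, ρ x ∈ (affIdeal Z).map
      (Algebra.TensorProduct.includeLeft (R := k) (S := k) (A := Γ(Z, ⊤)) (B := O)) := by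
    intro x hx
    have hr : (affIdeal Z).radical = affIdeal Z := (isRadical_affIdeal Z).radical
    have h := rho_radical hO ρ (affIdeal Z) hrad x (hr.symm ▸ hx)
    rwa [hr] at h
  obtain ⟨s, hs, hsc⟩ := exists_cover Z
  obtain ⟨N, v, R, hv, hsv, h1, h2, h3⟩ := exists_matrix hρ
    (stable_of_map_le ρ (affIdeal Z) hmap) (s := (s : Set Γ(Z, ⊤))) s.finite_toSet hs
  refine ⟨N, v, R, fun j => (mem_affIdeal Z _).1 (hv j), ?_, h1, h2, h3⟩
  intro z
  obtain ⟨φ, hφ, hz⟩ := hsc z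
  by_contra hn
  push Not at hn
  obtain ⟨c, hc⟩ := (Submodule.mem_span_range_iff_exists_fun k).1 (hsv hφ)
  -- the germ of `φ` at `z` is not a unit
  have h4 : φ ∈ Ideal.span (Set.range v) := by
    rw [← hc]
    refine Ideal.sum_mem _ fun j _ => ?_
    rw [Algebra.smul_def]
    exact Ideal.mul_mem_left _ _ (Ideal.subset_span ⟨j, rfl⟩)
  have h5 : Z.toSpecΓ z ∈ (PrimeSpectrum.basicOpen φ : Opens (PrimeSpectrum Γ(Z, ⊤))) := by
    have : z ∈ Z.toSpecΓ ⁻¹ᵁ (PrimeSpectrum.basicOpen φ) := by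
      rw [Z.toSpecΓ_preimage_basicOpen]
      exact hz
    exact this
  have h6 : ∀ j, v j ∈ (Z.toSpecΓ z).asIdeal := by
    intro j
    by_contra hj
    apply hn j
    rw [← Z.toSpecΓ_preimage_basicOpen]
    exact hj
  have h7 : Ideal.span (Set.range v) ≤ (Z.toSpecΓ z).asIdeal := by
    rw [Ideal.span_le]
    rintro _ ⟨j, rfl⟩
    exact h6 j
  exact h5 (h7 h4)

/-- The same with a non empty index set. -/
theorem exists_matrix_of_radical' [IsDomain k] [IsPrincipalIdealRing k] [Module.Free k O] (hO : KeepsRed k O)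
    {Z : Scheme.{u}} [Z.IsQuasiAffine] [Algebra k Γ(Z, ⊤)]
    (ρ : Γ(Z, ⊤) →ₐ[k] Γ(Z, ⊤) ⊗[k] O) (hρ : IsCo ρ.toLinearMap)
    (hrad : ∀ x ∈ affIdeal Z, ρ x ∈ ((affIdeal Z).map
      (Algebra.TensorProduct.includeLeft (R := k) (S := k) (A := Γ(Z, ⊤)) (B := O))).radical) :
    ∃ (N : ℕ) (v : Fin (N + 1) → Γ(Z, ⊤)) (R : Matrix (Fin (N + 1)) (Fin (N + 1)) O),
      (∀ j, IsAffineOpen (Z.basicOpen (v j))) ∧
      (∀ z : Z, ∃ j, z ∈ Z.basicOpen (v j)) ∧
      (∀ j, ρ (v j) = ∑ i, v i ⊗ₜ[k] R i j) ∧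
      (∀ i j, Coalgebra.comul (R := k) (R i j) = ∑ l, R i l ⊗ₜ[k] R l j) ∧
      (∀ i j, Coalgebra.counit (R := k) (R i j) = if i = j then 1 else 0) := by
  classical
  obtain ⟨N, v, R, h1, h2, h3, h4, h5⟩ := exists_matrix_of_radical hO ρ hρ hrad
  refine ⟨N, Fin.cons 0 v, fun i j => Fin.cases (Fin.cases 1 (fun _ => 0) j) (fun i' => Fin.cases 0 (fun j' => R i' j') j) i,
    ?_, ?_, ?_, ?_, ?_⟩
  · intro j
    refine Fin.cases ?_ (fun j => ?_) j
    · rw [Fin.cons_zero]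
      exact (mem_affIdeal Z 0).1 (Ideal.zero_mem _)
    · rw [Fin.cons_succ]
      exact h1 j
  · intro z
    obtain ⟨j, hj⟩ := h2 z
    exact ⟨j.succ, by rwa [Fin.cons_succ]⟩
  · intro j
    refine Fin.cases ?_ (fun j => ?_) j
    · rw [Fin.cons_zero, map_zero, Fin.sum_univ_succ]
      simp
    · rw [Fin.cons_succ, h3, Fin.sum_univ_succ]
      simp
  · intro i j
    refine Fin.cases (Fin.cases ?_ (fun j => ?_) j) (fun i => Fin.cases ?_ (fun j => ?_) j) i
    · rw [Fin.sum_univ_succ]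
      simp [Algebra.TensorProduct.one_def]
    · rw [Fin.sum_univ_succ]
      simp
    · rw [Fin.sum_univ_succ]
      simp
    · rw [Fin.sum_univ_succ]
      simp [h4]
  · intro i j
    refine Fin.cases (Fin.cases ?_ (fun j => ?_) j) (fun i => Fin.cases ?_ (fun j => ?_) j) i
    · simp
    · simp [(Fin.succ_ne_zero j).symm]
    · simp
    · simp [h5]

/-- **P5** for a quasi-affine scheme with an action morphism. -/
theorem exists_matrix_affIdeal [IsDomain k] [IsPrincipalIdealRing k] [Module.Free k O] (hO : KeepsRed k O)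
    {Z Z' : Scheme.{u}} [Z.IsQuasiAffine] [Algebra k Γ(Z, ⊤)]
    (ρ : Γ(Z, ⊤) →ₐ[k] Γ(Z, ⊤) ⊗[k] O) (hρ : IsCo ρ.toLinearMap) (α q : Z' ⟶ Z) [IsAffineHom α]
    (e : Γ(Z', ⊤) →+* Γ(Z, ⊤) ⊗[k] O)
    (hq : ∀ x, e (q.appTop.hom x) = x ⊗ₜ 1) (hα : ∀ x, e (α.appTop.hom x) = ρ x) :
    ∃ (N : ℕ) (v : Fin N → Γ(Z, ⊤)) (R : Matrix (Fin N) (Fin N) O), (∀ j, IsAffineOpen (Z.basicOpen (v j))) ∧
      (∀ z : Z, ∃ j, z ∈ Z.basicOpen (v j)) ∧
      (∀ j, ρ (v j) = ∑ i, v i ⊗ₜ[k] R i j) ∧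
      (∀ i j, Coalgebra.comul (R := k) (R i j) = ∑ l, R i l ⊗ₜ[k] R l j) ∧
      (∀ i j, Coalgebra.counit (R := k) (R i j) = if i = j then 1 else 0) :=
  exists_matrix_of_radical hO ρ hρ fun x hx => Ideal.le_radical (rho_affIdeal hO ρ α q e hq hα x hx)

end Groth.Agent.ResProp.EF.K895.P5
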